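import Groth.Agent.Lib.PunctSec7.Main
import Groth.Agent.Lib.Faltings.LowerBound
import Groth.Agent.Lib.Depth.CM
import Groth.Agent.Lib.Depth.Ischebeck
import Groth.Agent.Lib.FEt21.DepthTwo
import Groth.Agent.Lib.SGA2Para.Sheaf
import Groth.Agent.Lib.Serre.Ring

/-!
# The depth conditions for the Lefschetz condition on a punctured spectrum
-/

set_option autoImplicit false
set_option linter.style.haveILetI false

universe u

open CategoryTheory AlgebraicGeometry IsLocalRing

noncomputable section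

namespace GrothLib.PunctSec7

/-- The hypothesis for `O` follows from functions being the limit of those on the thickenings. -/
theorem homBij_of_secBij {X : Scheme.{u}} (𝓙 : X.IdealSheafData)
    (h : LefEt7.SecBij (fun n => 𝓙 ^ (n + 1)) (fun n => Lef.pow_succ_le 𝓙 n)) :
    Lef.HomToFormalBijective 𝓙 (Coh.structureModule X) := by
  constructor
  · intro φ ψ hφ
    refine FunMor20.homOfSection_unique ?_
    let a : Γ(X, ⊤) := φ.app ⊤ (FinCov.one X ⊤)
    let b : Γ(X, ⊤) := ψ.app ⊤ (FinCov.one X ⊤)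
    show a = b
    refine sub_eq_zero.1 (h.1 (a - b) fun n => ?_)
    rw [map_sub, sub_eq_zero]
    exact congrArg (fun χ => χ.app ⊤ (FinCov.one X ⊤)) (hφ n)
  · intro y hy
    obtain ⟨t, ht⟩ := h.2 (fun n => (y n).app ⊤ (FinCov.one X ⊤)) fun n => by
      refine (LefEt7.quotMap_app_top _ _).symm.trans ?_
      exact congrArg (fun χ => χ.app ⊤ (FinCov.one X ⊤)) (hy n)
    refine ⟨FinCov.homOfSection (N := Coh.structureModule X) t, fun n => FunMor20.homOfSection_unique ?_⟩
    refine Eq.trans ?_ (ht n)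
    show (𝓙 ^ (n + 1)).subschemeι.appTop
      ((FinCov.homOfSection (N := Coh.structureModule X) t).app ⊤ (FinCov.one X ⊤)) = _
    rw [(FinCov.homOfSection_one (N := Coh.structureModule X) t ⊤).trans (LefEt7.presheaf_map_self _ _ _)]

variable {A : Type u} [CommRing A] [IsLocalRing A] [IsNoetherianRing A]

theorem one_le_dim {p : Ideal A} [p.IsPrime] (hp : p ≠ maximalIdeal A) : 1 ≤ ringKrullDim (A ⧸ p) := by
  obtain ⟨x, hx, hxp⟩ := SetLike.exists_of_lt (lt_of_le_of_ne (le_maximalIdeal (Ideal.IsPrime.ne_top ‹_›)) hp)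
  haveI : Nontrivial (A ⧸ (p ⊔ Ideal.span {x})) := Ideal.Quotient.nontrivial_iff.2 fun h =>
    (maximalIdeal.isMaximal A).ne_top (top_le_iff.1 (h.symm.trans_le
      (sup_le (le_maximalIdeal (Ideal.IsPrime.ne_top ‹_›)) ((Ideal.span_singleton_le_iff_mem _).2 hx))))
  refine le_trans ?_ (Depth.ringKrullDim_quotient_sup_span_add_one_le p hxp)
  exact le_add_of_nonneg_left ringKrullDim_nonneg_of_nontrivial

theorem dim_quotient_eq (p : Ideal A) [p.IsPrime] :
    ∃ e : ℕ, ringKrullDim (A ⧸ p) = e ∧ ((maximalIdeal A).map (Ideal.Quotient.mk p)).height = e := by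
  haveI : IsLocalRing (A ⧸ p) := IsLocalRing.of_surjective' _ Ideal.Quotient.mk_surjective
  have hmap : (maximalIdeal A).map (Ideal.Quotient.mk p) = maximalIdeal (A ⧸ p) :=
    IsLocalRing.eq_maximalIdeal ((Ideal.map_eq_top_or_isMaximal_of_surjective _
      Ideal.Quotient.mk_surjective (maximalIdeal.isMaximal A)).resolve_left fun h => by
        have := Faltings.comap_map_eq (f := Ideal.Quotient.mk p) Ideal.Quotient.mk_surjective
          (q := maximalIdeal A) (by rw [Ideal.mk_ker]; exact le_maximalIdeal (Ideal.IsPrime.ne_top ‹_›))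
        rw [h, Ideal.comap_top] at this
        exact (maximalIdeal.isMaximal A).ne_top this.symm)
  obtain ⟨e, he⟩ := ENat.ne_top_iff_exists.1 (Ideal.height_ne_top
    (I := maximalIdeal (A ⧸ p)) (maximalIdeal.isMaximal _).ne_top)
  refine ⟨e, ?_, hmap ▸ he.symm⟩
  rw [← maximalIdeal_height_eq_ringKrullDim, ← he]
  rfl

theorem exists_between {p : Ideal A} [p.IsPrime] (he : ringKrullDim (A ⧸ p) = (2 : ℕ)) :
    ∃ q : PrimeSpectrum A, p < q.asIdeal ∧ ringKrullDim (A ⧸ q.asIdeal) = 1 := by
  obtain ⟨l, hl⟩ := Order.le_krullDim_iff.1 (he.ge : ((2 : ℕ) : WithBot ℕ∞) ≤ ringKrullDim (A ⧸ p))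
  let f := fun i => (PrimeSpectrum.comap (Ideal.Quotient.mk p) (l i)).asIdeal
  have hf : StrictMono f := fun i j hij => lt_of_le_of_ne
    (Ideal.comap_mono (l.strictMono hij).le)
    fun h => (l.strictMono hij).ne (PrimeSpectrum.comap_injective_of_surjective _ Ideal.Quotient.mk_surjective
      (PrimeSpectrum.ext h))
  let i₁ : Fin (l.length + 1) := ⟨1, by omega⟩
  let q : PrimeSpectrum A := PrimeSpectrum.comap (Ideal.Quotient.mk p) (l i₁)
  have hpq : p < q.asIdeal := lt_of_le_of_lt
    (fun a ha => show Ideal.Quotient.mk p a ∈ (l 0).asIdeal by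
      rw [Ideal.Quotient.eq_zero_iff_mem.2 ha]; exact zero_mem _)
    (hf (show (0 : Fin (l.length + 1)) < i₁ by simp [i₁, Fin.lt_def]))
  have hqm : q.asIdeal ≠ maximalIdeal A := fun h =>
    (hf (show i₁ < ⟨2, by omega⟩ by simp [i₁, Fin.lt_def])).not_ge
      ((le_maximalIdeal (l ⟨2, by omega⟩ |> PrimeSpectrum.comap (Ideal.Quotient.mk p)).isPrime.ne_top).trans h.ge)
  refine ⟨q, hpq, le_antisymm ?_ (one_le_dim hqm)⟩
  obtain ⟨x, hxq, hxp⟩ := SetLike.exists_of_lt hpq
  have h1 := Depth.ringKrullDim_quotient_sup_span_add_one_le p hxp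
  have h2 : ringKrullDim (A ⧸ q.asIdeal) ≤ ringKrullDim (A ⧸ (p ⊔ Ideal.span {x})) :=
    ringKrullDim_le_of_surjective (Ideal.Quotient.factor
      (sup_le hpq.le ((Ideal.span_singleton_le_iff_mem _).2 hxq))) (Ideal.Quotient.factor_surjective _)
  obtain ⟨d, hd, -⟩ := dim_quotient_eq q.asIdeal
  rw [hd] at h2 ⊢
  rw [he] at h1
  have h3 : ((d : WithBot ℕ∞) + 1) ≤ ((2 : ℕ) : WithBot ℕ∞) := le_trans (by gcongr) h1
  have h4 : d + 1 ≤ 2 := by exact_mod_cast h3
  exact_mod_cast (by omega : d ≤ 1)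

/-- Depth two at the primes of coheight one gives depth one at those of coheight two. -/
theorem one_le_depth
    (hdepth : ∀ p : PrimeSpectrum A, ringKrullDim (A ⧸ p.asIdeal) = 1 →
      (2 : ℕ∞) ≤ LocCoh.depth (Localization.AtPrime p.asIdeal) (Localization.AtPrime p.asIdeal))
    (p : PrimeSpectrum A) (he : ringKrullDim (A ⧸ p.asIdeal) = (2 : ℕ)) :
    (1 : ℕ∞) ≤ LocCoh.depth (Localization.AtPrime p.asIdeal) (Localization.AtPrime p.asIdeal) := by
  by_contra hc
  obtain ⟨q, hpq, hq⟩ := exists_between he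
  haveI : IsNoetherianRing (Localization.AtPrime p.asIdeal) := Depth.isNoetherian_atPrime _
  haveI : IsNoetherianRing (Localization.AtPrime q.asIdeal) := Depth.isNoetherian_atPrime _
  obtain ⟨P, hP, hle⟩ := Depth.exists_associatedPrime_ge (maximalIdeal.isMaximal _).ne_top hc
  have hPm : P = maximalIdeal _ := le_antisymm (le_maximalIdeal hP.isPrime.ne_top) hle
  have hpA : p.asIdeal ∈ associatedPrimes A A := by
    have h1 := Module.associatedPrimes.comap_mem_associatedPrimes_of_mem_associatedPrimes_of_isLocalizedModule_of_fg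
      (R' := Localization.AtPrime p.asIdeal) p.asIdeal.primeCompl
      (Algebra.linearMap A (Localization.AtPrime p.asIdeal)) P hP (IsNoetherian.noetherian _)
    rw [hPm] at h1
    rwa [show Ideal.comap (algebraMap A (Localization.AtPrime p.asIdeal)) (maximalIdeal _) = p.asIdeal from
      IsLocalization.AtPrime.comap_maximalIdeal _ p.asIdeal] at h1
  let B := Localization.AtPrime q.asIdeal
  let pB : Ideal B := p.asIdeal.map (algebraMap A B)
  have hdisj : Disjoint (q.asIdeal.primeCompl : Set A) p.asIdeal :=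
    Set.disjoint_left.2 fun a ha hap => ha (hpq.le hap)
  have hpc : pB.comap (algebraMap A B) = p.asIdeal :=
    IsLocalization.comap_map_of_isPrime_disjoint q.asIdeal.primeCompl B p.isPrime hdisj
  have hass : pB ∈ associatedPrimes B B :=
    Module.associatedPrimes.mem_associatedPrimes_of_comap_mem_associatedPrimes_of_isLocalizedModule
      q.asIdeal.primeCompl (Algebra.linearMap A B) pB (hpc.symm ▸ hpA)
  haveI := hass.isPrime
  have h2 := (WithBot.coe_le_coe.2 (hdepth q hq)).trans (Depth.depth_le_dim_quotient hass)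
  obtain ⟨l, hl⟩ := Order.le_krullDim_iff.1
    (show ((2 : ℕ) : WithBot ℕ∞) ≤ ringKrullDim (B ⧸ pB) from h2)
  let g : PrimeSpectrum (B ⧸ pB) → PrimeSpectrum (A ⧸ p.asIdeal) :=
    PrimeSpectrum.comap (Ideal.quotientMap pB (algebraMap A B) hpc.ge)
  have hcomm : ∀ P, PrimeSpectrum.comap (Ideal.Quotient.mk p.asIdeal) (g P) =
      PrimeSpectrum.comap (algebraMap A B) (PrimeSpectrum.comap (Ideal.Quotient.mk pB) P) := fun P => by
    simp only [g, ← PrimeSpectrum.comap_comp_apply, Ideal.quotientMap_comp_mk]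
  have hginj : Function.Injective g := fun P P' h =>
    PrimeSpectrum.comap_injective_of_surjective _ Ideal.Quotient.mk_surjective
      (PrimeSpectrum.localization_comap_injective B q.asIdeal.primeCompl
        ((hcomm P).symm.trans ((congrArg _ h).trans (hcomm P'))))
  have hg : StrictMono g := Monotone.strictMono_of_injective (fun _ _ h => Ideal.comap_mono h) hginj
  let Q : PrimeSpectrum (A ⧸ p.asIdeal) := ⟨_, Ideal.map_isPrime_of_surjective
    Ideal.Quotient.mk_surjective (I := maximalIdeal A) (by rw [Ideal.mk_ker]; exact le_maximalIdeal p.isPrime.ne_top)⟩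
  have hlt : g (l.last) < Q := by
    have hle' : PrimeSpectrum.comap (Ideal.Quotient.mk p.asIdeal) (g l.last) ≤ q := by
      rw [hcomm]
      intro a ha
      by_contra haq
      exact ((PrimeSpectrum.comap (Ideal.Quotient.mk pB) l.last).isPrime.ne_top)
        (Ideal.eq_top_of_isUnit_mem _ ha (IsLocalization.map_units B (⟨a, haq⟩ : q.asIdeal.primeCompl)))
    have hne : q.asIdeal ≠ maximalIdeal A := fun h => by
      haveI : (maximalIdeal A).IsMaximal := maximalIdeal.isMaximal A
      letI := Ideal.Quotient.field (maximalIdeal A)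
      rw [h, ringKrullDim_eq_zero_of_field] at hq
      exact zero_ne_one hq
    have hmem : ∀ a, Ideal.Quotient.mk p.asIdeal a ∈ Q.asIdeal ↔ a ∈ maximalIdeal A := fun a => by
      rw [← Ideal.mem_comap, Faltings.comap_map_eq Ideal.Quotient.mk_surjective
        (by rw [Ideal.mk_ker]; exact le_maximalIdeal p.isPrime.ne_top)]
    refine lt_of_le_of_ne (fun x hx => ?_) fun h => hne (le_antisymm (le_maximalIdeal q.isPrime.ne_top) ?_)
    · obtain ⟨a, rfl⟩ := Ideal.Quotient.mk_surjective x
      exact (hmem a).2 (le_maximalIdeal q.isPrime.ne_top (hle' hx))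
    · intro a ha
      exact hle' (show Ideal.Quotient.mk p.asIdeal a ∈ (g l.last).asIdeal from h ▸ (hmem a).2 ha)
  have h3 := Order.LTSeries.length_le_krullDim ((l.map g hg).snoc Q (by simpa using hlt))
  rw [RelSeries.snoc_length, LTSeries.map_length, hl] at h3
  have h4 : (2 + 1 : ℕ) ≤ 2 := by
    have := h3.trans (le_of_eq he)
    exact_mod_cast this
  omega

/-- The local cohomology in degrees one and two is killed by a power of `t`. -/
theorem killed {R : Type u} [CommRing R] [IsRegularLocalRing R] (π : R →+* A) (hπ : Function.Surjective π)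
    (t : A) (ht : t ∈ maximalIdeal A)
    (hdepth : ∀ p : PrimeSpectrum A, ringKrullDim (A ⧸ p.asIdeal) = 1 →
      (2 : ℕ∞) ≤ LocCoh.depth (Localization.AtPrime p.asIdeal) (Localization.AtPrime p.asIdeal))
    (i : ℕ) (hi : i < 3) : ∃ n : ℕ, ∀ x : LocCoh.H (maximalIdeal A) i A, t ^ n • x = 0 := by
  haveI : IsRegularRing R := Serre.isRegularRing_of_isRegularLocalRing R
  have h : ((3 : ℕ) : ℕ∞) ≤ LocCoh.finDimRel (maximalIdeal A) (Ideal.span {t}) A := by
    refine le_trans (le_iInf₂ fun p hp => ?_) (Faltings.minAdjDepth_le_finDimRel π hπ _ _ A)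
    have htp : t ∉ p.asIdeal := fun h => hp ((Ideal.span_singleton_le_iff_mem _).2 h)
    have hpm : p.asIdeal ≠ maximalIdeal A := fun h => htp (h ▸ ht)
    obtain ⟨e, he, hhe⟩ := dim_quotient_eq p.asIdeal
    rw [LocCoh.adjDepth, sup_eq_left.2 (le_maximalIdeal p.isPrime.ne_top), hhe, Depth.depth_localization_self]
    have he1 : 1 ≤ e := by
      have := (one_le_dim hpm).trans_eq he
      exact_mod_cast this
    match e, he1, he with
    | 1, _, he => exact le_trans (by norm_num) (add_le_add_left (hdepth p he) _)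
    | 2, _, he => exact le_trans (by norm_num) (add_le_add_left (one_le_depth hdepth p he) _)
    | e + 3, _, _ => exact le_trans (by exact_mod_cast Nat.le_add_left 3 e) le_add_self
  exact (Faltings.le_finDimRel_iff 3).1 h i hi t (Ideal.mem_span_singleton_self t)

/-- An open of the punctured spectrum containing `V(t)` has only points of depth two outside. -/
theorem depthTwoOutside (t : A) (ht : t ∈ maximalIdeal A)
    (hdepth : ∀ p : PrimeSpectrum A, ringKrullDim (A ⧸ p.asIdeal) = 1 →
      (2 : ℕ∞) ≤ LocCoh.depth (Localization.AtPrime p.asIdeal) (Localization.AtPrime p.asIdeal))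
    {V : (LocCoh.puncturedOpen A (maximalIdeal A) : Scheme.{u}).Opens}
    (hV : (((Kt t).comap (LocCoh.puncturedOpen A (maximalIdeal A)).ι).support :
      Set (LocCoh.puncturedOpen A (maximalIdeal A) : Scheme.{u})) ⊆ V) :
    Depth.DepthTwoOutside V := by
  intro x hx
  let p : PrimeSpectrum A := x.1
  have hmem : ∀ y : (LocCoh.puncturedOpen A (maximalIdeal A) : Scheme.{u}), t ∈ y.1.asIdeal → y ∈ V :=
    fun y hy => hV (by
      rw [Scheme.IdealSheafData.support_comap]
      show y.1 ∈ (Kt t).support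
      rw [← SetLike.mem_coe, Scheme.Hom.support_ker]
      refine subset_closure ?_
      obtain ⟨P, hP⟩ : y.1 ∈ Set.range (PrimeSpectrum.comap (Ideal.Quotient.mk (Ideal.span {t}))) := by
        rw [range_comap_of_surjective _ _ Ideal.Quotient.mk_surjective, Ideal.mk_ker]
        exact (PrimeSpectrum.mem_zeroLocus _ _).2 ((Ideal.span_singleton_le_iff_mem _).2 hy)
      exact ⟨P, hP⟩)
  have hpm : p.asIdeal ≠ maximalIdeal A := fun h => x.2 (show (maximalIdeal A : Set A) ⊆ p.asIdeal from h ▸ subset_rfl)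
  haveI : IsLocalRing (A ⧸ p.asIdeal) := IsLocalRing.of_surjective' _ Ideal.Quotient.mk_surjective
  have hmk : IsLocalHom (Ideal.Quotient.mk p.asIdeal) :=
    IsLocalHom.of_surjective _ Ideal.Quotient.mk_surjective
  have hne : Ideal.span {Ideal.Quotient.mk p.asIdeal t} ≠ ⊤ := by
    rw [Ne, Ideal.span_singleton_eq_top]
    exact fun h => (mem_maximalIdeal t).1 ht (h.of_map _ _)
  obtain ⟨Q, hQ⟩ := Ideal.nonempty_minimalPrimes hne
  have hQt := hQ.le (Ideal.mem_span_singleton_self _)
  let q : PrimeSpectrum A := PrimeSpectrum.comap (Ideal.Quotient.mk p.asIdeal) ⟨Q, hQ.isPrime⟩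
  have hpq : p.asIdeal ≤ q.asIdeal := fun a ha => show Ideal.Quotient.mk p.asIdeal a ∈ Q by
    rw [Ideal.Quotient.eq_zero_iff_mem.2 ha]; exact zero_mem _
  by_cases hqm : q.asIdeal = maximalIdeal A
  · have hQm : Q = maximalIdeal (A ⧸ p.asIdeal) := by
      refine le_antisymm (le_maximalIdeal hQ.isPrime.ne_top) fun b hb => ?_
      obtain ⟨a, rfl⟩ := Ideal.Quotient.mk_surjective b
      show a ∈ q.asIdeal
      rw [hqm]
      exact (mem_maximalIdeal a).2 fun h => (mem_maximalIdeal _).1 hb (h.map _)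
    haveI : (Ideal.span {Ideal.Quotient.mk p.asIdeal t}).IsPrincipal := ⟨⟨_, rfl⟩⟩
    have h1 := Ideal.height_le_one_of_isPrincipal_of_mem_minimalPrimes _ Q hQ
    rw [hQm] at h1
    have hdim : ringKrullDim (A ⧸ p.asIdeal) = 1 := le_antisymm
      (maximalIdeal_height_eq_ringKrullDim (R := A ⧸ p.asIdeal) ▸ WithBot.coe_le_coe.2 h1) (one_le_dim hpm)
    refine (hdepth p hdim).trans_eq ?_
    rw [← FEt21.depth_stalk_Spec A p]
    let σ := ((LocCoh.puncturedOpen A (maximalIdeal A)).stalkIso x).symm.commRingCatIsoToRingEquiv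
    unfold LocCoh.depth
    refine (FiniteQuot.idealDepth_congr σ σ.toAddEquiv (fun r y => map_mul σ r y)
      (IsLocalRing.maximalIdeal _)).trans ?_
    congr 1
    exact IsLocalRing.eq_maximalIdeal (Ideal.map_isMaximal_of_equiv σ)
  · let y : (LocCoh.puncturedOpen A (maximalIdeal A) : Scheme.{u}) := ⟨q, fun h =>
      hqm (le_antisymm (le_maximalIdeal q.isPrime.ne_top) h)⟩
    refine absurd ?_ hx
    refine (Topology.IsInducing.subtypeVal.specializes_iff.1 ?_).mem_open V.2 (hmem y hQt)
    exact (PrimeSpectrum.le_iff_specializes p q).1 hpq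

end GrothLib.PunctSec7
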