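import Groth.Agent.Lib.Formal2Sec7.Main
import Groth.Agent.Lib.Algz7.TildeSys
import Groth.Agent.Lib.FormalFn.Push
import Groth.Agent.Lib.QASec7.Main
import Groth.Agent.Lib.SGA2Para.Sheaf

/-!
# Formal functions and full faithfulness of completion on a punctured spectrum
-/

set_option autoImplicit false
set_option linter.style.haveILetI false

universe u

open CategoryTheory CategoryTheory.Limits AlgebraicGeometry Opposite Formal2 TopologicalSpace

noncomputable section

namespace GrothLib.PunctSec7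

open GrothLib.Cohom (hhMap)
open GrothLib.FormalFun (Bij)
open GrothLib.FormalSys

section Restrict

variable {A : Type u} [CommRing A] {X Z : Scheme.{u}} [X.Over (Spec (CommRingCat.of A))]
  [Z.Over (Spec (CommRingCat.of A))] (i : Z ⟶ X) [IsOpenImmersion i]

/-- Quotients by multiples restrict to open subschemes. -/
theorem isQuot_restrict (hi : (Z ↘ Spec (CommRingCat.of A)) = i ≫ (X ↘ Spec (CommRingCat.of A)))
    {J : Ideal A} {M N : X.Modules} {π : M ⟶ N} (hπ : IsQuot J π) :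
    IsQuot J ((Scheme.Modules.restrictFunctor i).map π) := by
  let adj := Scheme.Modules.restrictAdjunction i
  haveI := hπ.epi
  haveI hp : (Scheme.Modules.restrictFunctor i).PreservesEpimorphisms :=
    Functor.preservesEpimorphisms_of_adjunction adj
  haveI : Epi ((Scheme.Modules.restrictFunctor i).map π) := hp.preserves π
  have key : ∀ {P : Z.Modules} (φ : (Scheme.Modules.restrictFunctor i).obj M ⟶ P) (a : A),
      adj.homEquiv _ _ (Formal.smulMod A _ a ≫ φ) = Formal.smulMod A M a ≫ adj.homEquiv _ _ φ := by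
    intro P φ a
    rw [smulMod_naturality, adj.homEquiv_naturality_right, FormalFn.push_map_smulMod i hi, ← smulMod_naturality]
  refine IsQuot.mk' (fun a ha => ?_) ?_
  · apply (adj.homEquiv _ _).injective
    rw [key, ← Category.comp_id ((Scheme.Modules.restrictFunctor i).map π), adj.homEquiv_naturality_left,
      ← Category.assoc, hπ.comp_eq_zero a ha, zero_comp, Adjunction.homEquiv_unit, Functor.map_zero, comp_zero]
  · let q := cokernel.π (Formal.smulFamily J ((Scheme.Modules.restrictFunctor i).obj M))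
    obtain ⟨ψ, hψ⟩ := hπ.exists_desc (adj.homEquiv _ _ q) fun a ha => by
      rw [← key, (IsQuot.cokernelπ J _).comp_eq_zero a ha, Adjunction.homEquiv_unit, Functor.map_zero, comp_zero]
    refine ⟨(adj.homEquiv _ _).symm ψ, ?_⟩
    rw [← adj.homEquiv_naturality_left_symm, hψ, Equiv.symm_apply_apply]

end Restrict

section Iso

variable {A : Type u} [CommRing A] {X : Scheme.{u}} [X.Over (Spec (CommRingCat.of A))]

theorem bij_of_iso {I : Ideal A} {M N : X.Modules} {p : ℕ} (e : M ≅ N) (h : Bij I M p) : Bij I N p := by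
  choose f hf using fun k => QASec7.exists_modPow_map I e.hom k
  choose g hg using fun k => QASec7.exists_modPow_map I e.inv k
  have hgf : ∀ k, g k ≫ f k = 𝟙 _ := fun k => by
    haveI := FormalFun.epi_modPowπ I k N
    rw [← cancel_epi (Formal.modPowπ I k N), ← Category.assoc, hg, Category.assoc, hf, e.inv_hom_id_assoc,
      Category.comp_id]
  refine ⟨fun x hx => ?_, fun z hz => ?_⟩
  · have h0 : hhMap A e.inv p x = 0 := h.1 _ fun n => by
      rw [FormalFun.hhMap_comp, ← hg, ← FormalFun.hhMap_comp, hx n, map_zero]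
    rw [← FormalFun.hhMap_id (A := A) p x, ← e.inv_hom_id, ← FormalFun.hhMap_comp, h0, map_zero]
  · obtain ⟨x, hx⟩ := h.2 (fun n => hhMap A (g (n + 1)) p (z n)) fun n => by
      rw [← hz n, FormalFun.hhMap_comp, FormalFun.hhMap_comp]
      congr 2
      haveI := FormalFun.epi_modPowπ I (n + 1 + 1) N
      rw [← cancel_epi (Formal.modPowπ I (n + 1 + 1) N), ← Category.assoc, hg, ← Category.assoc,
        Formal.modPowπ_trans, hg, Category.assoc, Formal.modPowπ_trans]
    refine ⟨hhMap A e.hom p x, fun n => ?_⟩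
    rw [FormalFun.hhMap_comp, ← hf, ← FormalFun.hhMap_comp, hx n, FormalFun.hhMap_comp, hgf, FormalFun.hhMap_id]

end Iso

/-- The sheaf of morphisms of vector bundles is a vector bundle. -/
theorem isFinLocFree_homSh {X : Scheme.{u}} [IsLocallyNoetherian X] {E E' : X.Modules}
    (hE : FlatMod.IsFinLocFree E) (hE' : FlatMod.IsFinLocFree E') : FlatMod.IsFinLocFree (RefHull.homSh E E') := by
  have hEc := Euler.isCoh_of_isFinLocFree hE
  have hEc' := Euler.isCoh_of_isFinLocFree hE'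
  have hrel := HomSh.hasRel_of_isCoh hEc
  have hHc := HomSh.isCoh_homSh hrel hEc'
  refine (Ref1.isFinLocFree_iff_free (HomSh.hasRel_of_isCoh hHc)).2 fun x => ?_
  haveI := (Ref1.isFinLocFree_iff_free hrel).1 hE x
  haveI := (Ref1.isFinLocFree_iff_free (HomSh.hasRel_of_isCoh hEc')).1 hE' x
  haveI := QCoh.stalk_finite E hEc x
  haveI := QCoh.stalk_finite E' hEc' x
  exact Module.Free.of_equiv (LinearEquiv.ofBijective _ (hrel.evalStalk_bijective E' x)).symm

variable {A : Type u} [CommRing A] [IsNoetherianRing A] (𝔞 : Ideal A) (f : A)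

/-- The restriction to the punctured spectrum. -/
abbrev rW : (Spec (CommRingCat.of A)).Modules ⥤ (LocCoh.puncturedOpen A 𝔞 : Scheme.{u}).Modules :=
  Scheme.Modules.restrictFunctor (LocCoh.puncturedOpen A 𝔞).ι

/-- The restriction of an associated sheaf. -/
abbrev rT (M : Type u) [AddCommGroup M] [Module A M] : (LocCoh.puncturedOpen A 𝔞 : Scheme.{u}).Modules :=
  (rW 𝔞).obj (tilde (ModuleCat.of (CommRingCat.of A) M))

/-- The restriction of an associated morphism. -/
abbrev rTmap {M N : Type u} [AddCommGroup M] [Module A M] [AddCommGroup N] [Module A N] (φ : M →ₗ[A] N) :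
    rT 𝔞 M ⟶ rT 𝔞 N :=
  (rW 𝔞).map (tilde.map (ModuleCat.ofHom (R := CommRingCat.of A) φ))

omit [IsNoetherianRing A] in
theorem exists_sec_equiv : ∃ σ : ∀ (M : Type u) [AddCommGroup M] [Module A M],
    Coh.HH (LocCoh.puncturedOpen A 𝔞 : Scheme.{u}) (rT 𝔞 M) 0 ≃+ Formal2Sec7.Sc 𝔞 M,
    ∀ (M N : Type u) [AddCommGroup M] [Module A M] [AddCommGroup N] [Module A N] (φ : M →ₗ[A] N)
      (x : Coh.HH (LocCoh.puncturedOpen A 𝔞 : Scheme.{u}) (rT 𝔞 M) 0),
      σ N (hhMap A (rTmap 𝔞 φ) 0 x) = Formal2Sec7.sm 𝔞 φ (σ M x) := by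
  let W := LocCoh.puncturedOpen A 𝔞
  have hW : W.ι ''ᵁ (⊤ : (W : Scheme.{u}).Opens) = W := by
    rw [Scheme.Hom.image_top_eq_opensRange, Scheme.Opens.opensRange_ι]
  refine ⟨fun M _ _ => (ProjCoh.H0top (rT 𝔞 M)).trans
    ((tilde (ModuleCat.of (CommRingCat.of A) M)).presheaf.mapIso (eqToIso (congrArg op hW.symm)) |>.symm.addCommGroupIsoToAddEquiv), ?_⟩
  intro M N _ _ _ _ φ x
  simp only [AddEquiv.trans_apply]
  rw [Cohom.hhMap_apply (A := A)]
  erw [ProjCoh.H0top_map]
  exact (ConcreteCategory.congr_hom ((tilde.map (ModuleCat.ofHom (R := CommRingCat.of A) φ)).mapPresheaf.naturality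
    (eqToHom (congrArg op hW))) (ProjCoh.H0top (rT 𝔞 M) x)).symm

/-- Formal functions for `O` on the punctured spectrum. -/
theorem bij_structureModule [IsAdicComplete (Ideal.span {f}) A]
    (h₁ : ∃ n : ℕ, ∀ x : LocCoh.H 𝔞 1 A, f ^ n • x = 0) (h₂ : ∃ n : ℕ, ∀ x : LocCoh.H 𝔞 2 A, f ^ n • x = 0) :
    Bij (Ideal.span ({f} : Set A)) (Coh.structureModule (LocCoh.puncturedOpen A 𝔞 : Scheme.{u})) 0 := by
  let e : rT 𝔞 A ≅ Coh.structureModule (LocCoh.puncturedOpen A 𝔞 : Scheme.{u}) :=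
    (rW 𝔞).mapIso tildeSelf ≪≫ Scheme.Modules.restrictUnitIso _
  refine bij_of_iso e ?_
  obtain ⟨inj, surj⟩ := Formal2Sec7.bijective_of_killed (M := A) 𝔞 f h₁ h₂
  obtain ⟨σ, hσ⟩ := exists_sec_equiv 𝔞
  let I := Ideal.span ({f} : Set A)
  letI := Algz7.specOverSelf A
  have hq : ∀ n, IsQuot (I ^ (n + 1)) (rTmap 𝔞 (quotPowπ A I A n)) := fun n =>
    isQuot_restrict _ rfl (Algz7.isQuot_tilde_map
      (ModuleCat.ofHom (R := CommRingCat.of A) (quotPowπ A I A n)) (Submodule.mkQ_surjective _) (Submodule.ker_mkQ _))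
  choose ε hε using fun n => (hq n).exists_iso (IsQuot.modPowπ I (n + 1) (rT 𝔞 A))
  have htr : ∀ n, rTmap 𝔞 (quotPowTrans A I A n) ≫ (ε n).hom = (ε (n + 1)).hom ≫ Formal.modPowTrans I (n + 1) _ := by
    intro n
    haveI := (hq (n + 1)).epi
    rw [← cancel_epi (rTmap 𝔞 (quotPowπ A I A (n + 1))), ← Category.assoc, ← Category.assoc, hε (n + 1),
      Formal.modPowπ_trans, ← hε n]
    congr 1
    refine ((rW 𝔞).map_comp _ _).symm.trans (congrArg (rW 𝔞).map ?_)
    refine (tilde.map_comp _ _).symm.trans (congrArg _ (ModuleCat.hom_ext (LinearMap.ext fun a => rfl)))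
  have hstep : ∀ n (y : Coh.HH (LocCoh.puncturedOpen A 𝔞 : Scheme.{u}) (rT 𝔞 (quotPow A I A n)) 0),
      hhMap A (ε n).inv 0 (hhMap A (ε n).hom 0 y) = y := fun n y => by
    rw [FormalFun.hhMap_comp, Iso.hom_inv_id, FormalFun.hhMap_id]
  refine ⟨fun x hx => (σ A).injective ?_, fun z hz => ?_⟩
  · rw [map_zero]
    refine inj _ fun n => ?_
    rw [← hσ, ← hstep n (hhMap A _ 0 x), FormalFun.hhMap_comp (rTmap 𝔞 (quotPowπ A I A n)) (ε n).hom, hε n, hx n,
      map_zero, map_zero]
  · obtain ⟨s, hs⟩ := surj (fun n => σ _ (hhMap A (ε n).inv 0 (z n))) fun n => by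
      rw [← hσ, ← hz n, FormalFun.hhMap_comp, FormalFun.hhMap_comp]
      congr 3
      rw [Iso.eq_comp_inv, Category.assoc, htr n, Iso.inv_hom_id_assoc]
    refine ⟨(σ A).symm s, fun n => ?_⟩
    have h1 : hhMap A (rTmap 𝔞 (quotPowπ A I A n)) 0 ((σ A).symm s) = hhMap A (ε n).inv 0 (z n) :=
      (σ _).injective (by rw [hσ, AddEquiv.apply_symm_apply, hs n])
    rw [← hε n, ← FormalFun.hhMap_comp, h1, FormalFun.hhMap_comp, Iso.inv_hom_id, FormalFun.hhMap_id]

/-- Completion is fully faithful on vector bundles on the punctured spectrum. -/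
theorem existsUnique_hom_of_killed [IsAdicComplete (Ideal.span {f}) A]
    (h₁ : ∃ n : ℕ, ∀ x : LocCoh.H 𝔞 1 A, f ^ n • x = 0) (h₂ : ∃ n : ℕ, ∀ x : LocCoh.H 𝔞 2 A, f ^ n • x = 0)
    (E E' : (LocCoh.puncturedOpen A 𝔞 : Scheme.{u}).Modules) (hE : FlatMod.IsFinLocFree E) (hE' : FlatMod.IsFinLocFree E')
    (ψ : Formal.completion (Ideal.span {f}) E ⟶ Formal.completion (Ideal.span {f}) E') :
    ∃! φ : E ⟶ E', ∀ n : ℕ,
      Formal.modPowπ (Ideal.span {f}) (n + 1) E ≫ ψ.app (op n) = φ ≫ Formal.modPowπ (Ideal.span {f}) (n + 1) E' := by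
  let W := LocCoh.puncturedOpen A 𝔞
  haveI : IsLocallyNoetherian (W : Scheme.{u}) := isLocallyNoetherian_of_isOpenImmersion W.ι
  haveI : CompactSpace (W : Scheme.{u}) := isCompact_iff_compactSpace.1 (TopologicalSpace.NoetherianSpace.isCompact _)
  haveI : IsNoetherian (W : Scheme.{u}) := {}
  haveI : (W : Scheme.{u}).IsQuasiAffine := Scheme.IsQuasiAffine.of_isImmersion W.ι
  exact FormalFun.existsUnique_hom _ (Euler.isCoh_of_isFinLocFree hE) (Euler.isCoh_of_isFinLocFree hE')
    (QASec7.bij_of_isFinLocFree _ (bij_structureModule 𝔞 f h₁ h₂) (isFinLocFree_homSh hE hE')) ψ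

end GrothLib.PunctSec7
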