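import Groth.Agent.Lib.PunctSec7.Formal
import Groth.Agent.Lib.Punctured.CoherentCohom
import Groth.Agent.Lib.SheafCoh.Sections

/-!
# Formal functions in higher degree on a punctured spectrum
-/

set_option autoImplicit false
set_option linter.style.haveILetI false

universe u

open CategoryTheory CategoryTheory.Limits AlgebraicGeometry Opposite Formal2 TopologicalSpace

noncomputable section

namespace GrothLib.PunctSec7

open GrothLib.Cohom (hhMap)
open GrothLib.FormalFun (Bij)
open GrothLib.FormalSys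

section Killed

variable {A : Type u} [CommRing A] (f : A) {H : Type u} [AddCommGroup H] [Module A H]

theorem isAdicComplete_of_killed (N : ℕ) (h : ∀ x : H, f ^ N • x = 0) :
    IsAdicComplete (Ideal.span ({f} : Set A)) H := by
  have hbot : ∀ x ∈ (Ideal.span ({f} : Set A)) ^ N • (⊤ : Submodule A H), x = 0 := fun x hx => by
    obtain ⟨y, rfl⟩ := FormalFun.mem_range_smul_of_mem hx
    exact h y
  refine { haus' := fun x hx => hbot x (SModEq.zero.1 (hx N)), prec' := fun g hg => ⟨g N, fun n => ?_⟩ }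
  rcases le_total n N with hn | hn
  · exact hg hn
  · rw [← sub_eq_zero.1 (hbot _ (SModEq.sub_mem.1 (hg hn)))]

variable {X : Scheme.{u}} [X.Over (Spec (CommRingCat.of A))] [IsNoetherianRing A] [IsNoetherian X]
  {M : X.Modules}

omit [IsNoetherianRing A] in
/-- Formal functions in degree `p` from the torsion of the cohomology. -/
theorem bij_of_killed_hh (hM : Coh.IsCoh M) (p : ℕ) :
    (IsHausdorff (Ideal.span ({f} : Set A)) (Coh.HH X M p) → ∀ x : Coh.HH X M p,
        (∀ n, hhMap A (Formal.modPowπ (Ideal.span ({f} : Set A)) (n + 1) M) p x = 0) → x = 0) ∧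
      (IsAdicComplete (Ideal.span ({f} : Set A)) (Coh.HH X M p) →
        (∃ N, ∀ x : Coh.HH X M (p + 1), f ^ N • x = 0) → Bij (Ideal.span ({f} : Set A)) M p) := by
  set J := Ideal.span ({f} : Set A) with hJ
  obtain ⟨c, hc⟩ := FormalFun.exists_kernel_stable hM f
  let ι : kernel (Formal.smulMod A M (f ^ c)) ⟶ M := kernel.ι _
  let M' := cokernel ι
  let q : M ⟶ M' := cokernel.π ι
  have hφ0 : ∀ n, ι ≫ Formal.smulMod A M (f ^ (n + c)) = 0 := fun n => by
    rw [pow_add, smulMod_mul, kernel.condition_assoc, zero_comp]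
  let φ : ∀ n, M' ⟶ M := fun n => cokernel.desc ι _ (hφ0 n)
  have hqφ : ∀ n, q ≫ φ n = Formal.smulMod A M (f ^ (n + c)) := fun n => cokernel.π_desc _ _ _
  have hmono : ∀ n, Mono (φ n) := fun n => by
    refine Preadditive.mono_of_cancel_zero _ fun {T} x hx => ?_
    obtain ⟨T', r, hr, z, hz⟩ := surjective_up_to_refinements_of_epi q x
    have h0 : z ≫ Formal.smulMod A M (f ^ (n + c)) = 0 := by
      rw [← hqφ, ← Category.assoc, ← hz, Category.assoc, hx, comp_zero]
    rw [← cancel_epi r, comp_zero, hz,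
      ← kernel.lift_ι _ z (hc (n + c) (Nat.le_add_left c n) z h0), Category.assoc]
    exact (congrArg _ (cokernel.condition ι)).trans comp_zero
  have hq := fun n => IsQuot.modPowπ J (n + c) M
  have hw : ∀ n, φ n ≫ Formal.modPowπ J (n + c) M = 0 := fun n => by
    rw [← cancel_epi q, ← Category.assoc, hqφ, comp_zero]
    exact (comp_eq_zero_span_pow_iff f _ _).1 (hq n).comp_eq_zero
  have hS : ∀ n, (ShortComplex.mk (φ n) _ (hw n)).ShortExact := fun n => by
    have hd : ∀ {Z : X.Modules} (g : M ⟶ Z), φ n ≫ g = 0 →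
        ∀ a ∈ J ^ (n + c), Formal.smulMod A M a ≫ g = 0 := fun g hg =>
      (comp_eq_zero_span_pow_iff f _ _).2 (by rw [← hqφ, Category.assoc, hg, comp_zero])
    have := (hq n).epi
    refine ShortComplex.ShortExact.mk' ?_ (hmono n) (hq n).epi
    exact ShortComplex.exact_of_g_is_cokernel _ (CokernelCofork.IsColimit.ofπ _ _
      (fun g hg => ((hq n).exists_desc g (hd g hg)).choose)
      (fun g hg => ((hq n).exists_desc g (hd g hg)).choose_spec)
      (fun g hg m hm => (cancel_epi (Formal.modPowπ J (n + c) M)).1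
        (hm.trans ((hq n).exists_desc g (hd g hg)).choose_spec.symm)))
  have hsucc : ∀ n, φ (n + 1) = Formal.smulMod A M' f ≫ φ n := fun n => by
    rw [← cancel_epi q, hqφ, ← Category.assoc, ← smulMod_naturality, Category.assoc, hqφ,
      ← smulMod_mul]
    ring_nf
  refine ⟨fun hH x hx => ?_, fun hcp ⟨N, hN⟩ => ?_⟩
  · have hrange : ∀ n (y : Coh.HH X M' p), hhMap A (φ n) p y = f ^ n • hhMap A (φ 0) p y := fun n y => by
      induction n generalizing y with
      | zero => rw [pow_zero, one_smul]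
      | succ n ih =>
        rw [hsucc, ← FormalFun.hhMap_comp, FormalFun.hhMap_smulMod, map_smul, ih, smul_smul, pow_succ']
    refine IsHausdorff.haus hH x fun n => ?_
    rw [SModEq.zero]
    have h1 : hhMap A (Formal.modPowπ J (n + c) M) p x = 0 := by
      have h := congrArg (hhMap A (Formal.modPowTrans J (n + c) M) p) (hx (n + c))
      rwa [FormalFun.hhMap_comp, Formal.modPowπ_trans, map_zero] at h
    obtain ⟨y, rfl⟩ := (Cohom.exact₂ (A := A) (hS n) p x).1 h1
    exact (hrange n y).symm ▸ FormalFun.smul_mem_pow f n _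
  · have hS0 : (ShortComplex.mk ι q (cokernel.condition ι)).ShortExact :=
      { exact := ShortComplex.exact_of_g_is_cokernel _ (cokernelIsCokernel ι) }
    have hK : ∀ z : Coh.HH X (kernel (Formal.smulMod A M (f ^ c))) (p + 1 + 1), f ^ c • z = 0 := fun z => by
      rw [← FormalFun.hhMap_smulMod]
      have h0 : Formal.smulMod A (kernel (Formal.smulMod A M (f ^ c))) (f ^ c) = 0 := by
        rw [← cancel_mono ι, smulMod_naturality, kernel.condition, zero_comp]
      rw [h0]
      exact FormalFun.hhMap_zero _ z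
    have hkill : ∀ z : Coh.HH X M' (p + 1), f ^ (N + c) • z = 0 := fun z => by
      have h1 : Cohom.hhDelta A hS0 (p + 1) (f ^ c • z) = 0 := by rw [map_smul]; exact hK _
      obtain ⟨w, hw'⟩ := (Cohom.exact₃ (A := A) hS0 (p + 1) _).1 h1
      rw [pow_add, mul_smul, ← hw', ← map_smul, hN w, map_zero]
    haveI := hcp
    haveI := (isAdicComplete_of_killed f (N + c) hkill).toIsHausdorff
    exact FormalFun.bij_of_sequences f c φ hsucc hw hS p

end Killed

variable {A : Type u} [CommRing A] [IsNoetherianRing A] (𝔞 : Ideal A) (f : A)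

omit [IsNoetherianRing A] in
/-- Restriction of abelian sheaves and of modules agree. -/
def restrObjIso (N : (Spec (CommRingCat.of A)).Modules) :
    (Cohom.restrFun (Scheme.Hom.isOpenEmbedding (LocCoh.puncturedOpen A 𝔞).ι)).obj (Coh.toAb N) ≅ Coh.toAb ((rW 𝔞).obj N) :=
  Iso.refl _

omit [IsNoetherianRing A] in
theorem restrObjIso_natural {M N : (Spec (CommRingCat.of A)).Modules} (g : M ⟶ N) :
    (Cohom.restrFun (Scheme.Hom.isOpenEmbedding (LocCoh.puncturedOpen A 𝔞).ι)).map ((SheafOfModules.toSheaf _).map g) ≫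
        (restrObjIso 𝔞 N).hom = (restrObjIso 𝔞 M).hom ≫ (SheafOfModules.toSheaf _).map ((rW 𝔞).map g) :=
  rfl

omit [IsNoetherianRing A] in
/-- Cohomology on the open of an abelian sheaf is that of its restriction. -/
theorem exists_HU_equiv (i : ℕ) : ∃ e : ∀ F : CohTop.Ab (Spec (CommRingCat.of A)).toTopCat,
    CohTop.HU F i (LocCoh.puncturedOpen A 𝔞) ≃+
      Sheaf.H ((Cohom.restrFun (Scheme.Hom.isOpenEmbedding (LocCoh.puncturedOpen A 𝔞).ι)).obj F) i,
    ∀ (F G : CohTop.Ab (Spec (CommRingCat.of A)).toTopCat) (g : F ⟶ G)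
      (x : CohTop.HU F i (LocCoh.puncturedOpen A 𝔞)),
      e G (CohTop.HUmap g i (LocCoh.puncturedOpen A 𝔞) x) =
        Sheaf.H.map ((Cohom.restrFun (Scheme.Hom.isOpenEmbedding (LocCoh.puncturedOpen A 𝔞).ι)).map g) i (e F x) := by
  let W := LocCoh.puncturedOpen A 𝔞
  obtain ⟨c⟩ := Cohom.nonempty_comparison_restrFun (Scheme.Hom.isOpenEmbedding W.ι) (⊤ : (W : Scheme.{u}).Opens) i
  have hW : W.ι ''ᵁ (⊤ : (W : Scheme.{u}).Opens) = W := by
    rw [Scheme.Hom.image_top_eq_opensRange, Scheme.Opens.opensRange_ι]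
  let α : Cohom.freeFun.obj (W.ι ''ᵁ (⊤ : (W : Scheme.{u}).Opens)) ≅ Cohom.freeFun.obj W :=
    Cohom.freeFun.mapIso (eqToIso hW)
  refine ⟨fun F => (SheafCoh.HUext F i W).trans ((Cohom.extPrecompIso α F i).trans
    ((c.equiv F trivial).trans (Cohom.HEquivTop _ i).symm)), ?_⟩
  intro F G g x
  apply (Cohom.HEquivTop _ i).injective
  refine (AddEquiv.apply_symm_apply _ _).trans ?_
  refine Eq.trans ?_ (FormalFn.HEquivTop_map _ i _).symm
  refine Eq.trans ?_ (congrArg (fun t : Abelian.Ext.{u} _ _ i => t.comp (Abelian.Ext.mk₀ _) (add_zero i))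
    (AddEquiv.apply_symm_apply _ _).symm)
  refine Eq.trans ?_ (c.naturality g trivial trivial _)
  refine congrArg (c.equiv G trivial) ?_
  refine (congrArg (Cohom.extPrecompIso α _ i) (SheafCoh.map_eq g i W x)).trans ?_
  exact (Abelian.Ext.comp_assoc_of_third_deg_zero _ _ _ (zero_add i)).symm

/-- Cohomology along an isomorphism of sheaves. -/
def hIso {T : TopCat.{u}} {F G : CohTop.Ab T} (β : F ≅ G) (i : ℕ) : Sheaf.H F i ≃+ Sheaf.H G i :=
  { Sheaf.H.map β.hom i with
    invFun := Sheaf.H.map β.inv i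
    left_inv := fun x => by
      show Sheaf.H.map β.inv i (Sheaf.H.map β.hom i x) = x
      rw [← Sheaf.H.map_comp_apply, β.hom_inv_id, Sheaf.H.map_id_apply]
    right_inv := fun x => by
      show Sheaf.H.map β.hom i (Sheaf.H.map β.inv i x) = x
      rw [← Sheaf.H.map_comp_apply, β.inv_hom_id, Sheaf.H.map_id_apply] }

theorem hIso_apply {T : TopCat.{u}} {F G : CohTop.Ab T} (β : F ≅ G) (i : ℕ) (x : Sheaf.H F i) :
    hIso β i x = Sheaf.H.map β.hom i x := rfl

omit [IsNoetherianRing A] in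
/-- Cohomology on the open of a module is that of its restriction. -/
theorem exists_HU_mod_equiv (i : ℕ) : ∃ e : ∀ N : (Spec (CommRingCat.of A)).Modules,
    CohTop.HU (Coh.toAb N) i (LocCoh.puncturedOpen A 𝔞) ≃+ Coh.HH (LocCoh.puncturedOpen A 𝔞 : Scheme.{u}) ((rW 𝔞).obj N) i,
    ∀ (N N' : (Spec (CommRingCat.of A)).Modules) (g : N ⟶ N')
      (x : CohTop.HU (Coh.toAb N) i (LocCoh.puncturedOpen A 𝔞)),
      e N' (CohTop.HUmap ((SheafOfModules.toSheaf _).map g) i (LocCoh.puncturedOpen A 𝔞) x) =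
        Sheaf.H.map ((SheafOfModules.toSheaf _).map ((rW 𝔞).map g)) i (e N x) := by
  obtain ⟨e, he⟩ := exists_HU_equiv 𝔞 i
  refine ⟨fun N => (e (Coh.toAb N)).trans (hIso (restrObjIso 𝔞 N) i), fun N N' g x => ?_⟩
  rw [AddEquiv.trans_apply, AddEquiv.trans_apply, hIso_apply, hIso_apply, he,
    ← Sheaf.H.map_comp_apply, ← Sheaf.H.map_comp_apply, restrObjIso_natural 𝔞 g]

omit [IsNoetherianRing A] in
/-- Cohomology on the open, naturally, is the cohomology of the restriction. -/
theorem exists_HV_equiv (i : ℕ) : ∃ e : ∀ (M : Type u) [AddCommGroup M] [Module A M],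
    HV A M i (LocCoh.puncturedOpen A 𝔞) ≃+ Coh.HH (LocCoh.puncturedOpen A 𝔞 : Scheme.{u}) (rT 𝔞 M) i,
    ∀ (M N : Type u) [AddCommGroup M] [Module A M] [AddCommGroup N] [Module A N] (φ : M →ₗ[A] N)
      (x : HV A M i (LocCoh.puncturedOpen A 𝔞)),
      e N (HVmap A φ i (LocCoh.puncturedOpen A 𝔞) x) = hhMap A (rTmap 𝔞 φ) i (e M x) := by
  obtain ⟨e, he⟩ := exists_HU_mod_equiv 𝔞 i
  refine ⟨fun M _ _ => e (tmod A M), fun M N _ _ _ _ φ x => ?_⟩
  rw [Cohom.hhMap_apply (A := A)]
  exact he _ _ (tmodMap A φ) x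

/-- The comparison on the open from formal functions for the restriction. -/
theorem formalCohBijective_of_bij (M : Type u) [AddCommGroup M] [Module A M] (i : ℕ)
    (h : Bij (Ideal.span ({f} : Set A)) (rT 𝔞 M) i) :
    FormalCohBijective A (Ideal.span ({f} : Set A)) M i (LocCoh.puncturedOpen A 𝔞) := by
  let I := Ideal.span ({f} : Set A)
  obtain ⟨e, he⟩ := exists_HV_equiv 𝔞 i
  letI := Algz7.specOverSelf A
  have hq : ∀ n, IsQuot (I ^ (n + 1)) (rTmap 𝔞 (quotPowπ A I M n)) := fun n =>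
    isQuot_restrict _ rfl (Algz7.isQuot_tilde_map
      (ModuleCat.ofHom (R := CommRingCat.of A) (quotPowπ A I M n)) (Submodule.mkQ_surjective _) (Submodule.ker_mkQ _))
  choose ε hε using fun n => (hq n).exists_iso (IsQuot.modPowπ I (n + 1) (rT 𝔞 M))
  have htr : ∀ n, rTmap 𝔞 (quotPowTrans A I M n) ≫ (ε n).hom = (ε (n + 1)).hom ≫ Formal.modPowTrans I (n + 1) _ := by
    intro n
    haveI := (hq (n + 1)).epi
    rw [← cancel_epi (rTmap 𝔞 (quotPowπ A I M (n + 1))), ← Category.assoc, ← Category.assoc, hε (n + 1),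
      Formal.modPowπ_trans, ← hε n]
    congr 1
    refine ((rW 𝔞).map_comp _ _).symm.trans (congrArg (rW 𝔞).map ?_)
    refine (tilde.map_comp _ _).symm.trans (congrArg _ (ModuleCat.hom_ext (LinearMap.ext fun a => rfl)))
  refine ⟨fun x x' hx => (e M).injective (sub_eq_zero.1 (h.1 _ fun n => ?_)), fun y hy => ?_⟩
  · rw [map_sub, ← hε n, ← FormalFun.hhMap_comp, ← FormalFun.hhMap_comp, ← he, ← he, hx n, sub_self]
  · obtain ⟨s, hs⟩ := h.2 (fun n => hhMap A (ε n).hom i (e _ (y n))) fun n => by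
      rw [← hy n, he, FormalFun.hhMap_comp, FormalFun.hhMap_comp, htr n]
    refine ⟨(e M).symm s, fun n => (e _).injective ?_⟩
    rw [he, AddEquiv.apply_symm_apply]
    have h1 := congrArg (hhMap A (ε n).inv i) (hs n)
    rw [← hε n, FormalFun.hhMap_comp, Category.assoc, Iso.hom_inv_id, Category.comp_id,
      FormalFun.hhMap_comp, Iso.hom_inv_id, FormalFun.hhMap_id] at h1
    exact h1

theorem isCoh_rT (M : Type u) [AddCommGroup M] [Module A M] [Module.Finite A M] : Coh.IsCoh (rT 𝔞 M) :=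
  Cohom.isCoh_restrict _ (QCoh.isCoh_tilde_of_finite (R := CommRingCat.of A) (ModuleCat.of (CommRingCat.of A) M)) _

/-- Positive degree cohomology of the restriction is killed with local cohomology. -/
theorem hh_killed (M : Type u) [AddCommGroup M] [Module A M] (p : ℕ) (a : A)
    (h : ∀ x : LocCoh.H 𝔞 (p + 2) M, a • x = 0)
    (x : Coh.HH (LocCoh.puncturedOpen A 𝔞 : Scheme.{u}) (rT 𝔞 M) (p + 1)) : a • x = 0 := by
  obtain ⟨e⟩ := Punctured.nonempty_HH_equiv 𝔞 p (ModuleCat.of (CommRingCat.of A) M)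
  exact e.injective (((map_smul e a x).trans (h (e x))).trans (map_zero e).symm)

/-- Higher degree formal functions from killed local cohomology. -/
theorem formalCohBijective_succ (M : Type u) [AddCommGroup M] [Module A M] [Module.Finite A M] (p : ℕ)
    (h₁ : ∃ n : ℕ, ∀ x : LocCoh.H 𝔞 (p + 2) M, f ^ n • x = 0)
    (h₂ : ∃ n : ℕ, ∀ x : LocCoh.H 𝔞 (p + 3) M, f ^ n • x = 0) :
    FormalCohBijective A (Ideal.span ({f} : Set A)) M (p + 1) (LocCoh.puncturedOpen A 𝔞) := by
  let W := LocCoh.puncturedOpen A 𝔞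
  haveI : IsLocallyNoetherian (W : Scheme.{u}) := isLocallyNoetherian_of_isOpenImmersion W.ι
  haveI : CompactSpace (W : Scheme.{u}) := isCompact_iff_compactSpace.1 (TopologicalSpace.NoetherianSpace.isCompact _)
  haveI : IsNoetherian (W : Scheme.{u}) := {}
  obtain ⟨a, ha⟩ := h₁
  obtain ⟨b, hb⟩ := h₂
  exact formalCohBijective_of_bij 𝔞 f M (p + 1) ((bij_of_killed_hh f (isCoh_rT 𝔞 M) (p + 1)).2
    (isAdicComplete_of_killed f a (hh_killed 𝔞 M p _ ha)) ⟨b, hh_killed 𝔞 M (p + 1) _ hb⟩)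

end GrothLib.PunctSec7
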