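import Groth.Agent.Lib.PunctSec7.Higher
import Groth.Agent.Lib.PunctSec7.Lef
import Groth.Agent.Lib.DepthExt20.Basic
import Groth.Agent.Lib.AssPts.Restrict
import Groth.Agent.S11650

/-!
# Formal functions on a punctured spectrum from the depth at the closed points
-/

set_option autoImplicit false
set_option linter.style.haveILetI false

universe u

open CategoryTheory CategoryTheory.Limits AlgebraicGeometry Opposite TopologicalSpace IsLocalRing

noncomputable section

namespace GrothLib.PunctSec7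

set_option backward.isDefEq.respectTransparency.types false in
/-- Depth of the stalk of an associated sheaf. -/
theorem depth_stalk_tilde {R : CommRingCat.{u}} [IsNoetherianRing R] (M : ModuleCat.{u} R) [Module.Finite R M]
    (x : PrimeSpectrum.Top R) :
    LocCoh.depth ((Spec R).presheaf.stalk x) ((tilde M).presheaf.stalk x) =
      LocCoh.depth (Localization.AtPrime x.asIdeal) (LocalizedModule x.asIdeal.primeCompl M) := by
  let O := (Spec R).presheaf.stalk x
  letI : Algebra R O := StructureSheaf.stalkAlgebra (R := R) x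
  haveI : IsLocalization.AtPrime O x.asIdeal := StructureSheaf.IsLocalization.to_stalk (R := R) x
  haveI : IsScalarTower R O ((tilde M).presheaf.stalk x) := .of_algebraMap_smul fun _ _ => rfl
  haveI : IsLocalizedModule x.asIdeal.primeCompl (tilde.toStalk M x).hom := inferInstance
  exact (DepthExt20.depth_eq_of_isLocalization x.asIdeal O ((tilde M).presheaf.stalk x) (tilde.toStalk M x).hom).symm

/-- Depth of a stalk of a restriction. -/
theorem depth_stalk_restrict {X : Scheme.{u}} (G : X.Modules) (U : X.Opens) (y : (U : Scheme.{u})) :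
    LocCoh.depth ((U : Scheme.{u}).presheaf.stalk y) ((G.restrict U.ι).presheaf.stalk y) =
      LocCoh.depth (X.presheaf.stalk (U.ι y)) (G.presheaf.stalk (U.ι y)) := by
  obtain ⟨ψ, φ, hψ, hφ, h⟩ := AssPts.exists_restrict_stalk G U y
  let σ := RingEquiv.ofBijective ψ hψ
  unfold LocCoh.depth
  refine (FiniteQuot.idealDepth_congr σ (AddEquiv.ofBijective φ hφ) h
    (IsLocalRing.maximalIdeal _)).trans ?_
  congr 1
  exact IsLocalRing.eq_maximalIdeal (Ideal.map_isMaximal_of_equiv σ)

theorem depth_congr_iso {X : Scheme.{u}} {G G' : X.Modules} (e : G ≅ G') (x : X) :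
    LocCoh.depth (X.presheaf.stalk x) (G.presheaf.stalk x) = LocCoh.depth (X.presheaf.stalk x) (G'.presheaf.stalk x) := by
  let l := AssPts.stalkEquiv e x
  unfold LocCoh.depth
  refine (FiniteQuot.idealDepth_congr (RingEquiv.refl _) l.toAddEquiv (fun r m => l.map_smul r m)
    (IsLocalRing.maximalIdeal _)).trans ?_
  congr 1
  exact Ideal.map_id _

variable {A : Type u} [CommRing A] [IsLocalRing A] [IsNoetherianRing A]

omit [IsNoetherianRing A] in
theorem exists_above (q : Ideal A) [q.IsPrime] (hq : (2 : WithBot ℕ∞) ≤ ringKrullDim (A ⧸ q)) :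
    ∃ q' : PrimeSpectrum A, q < q'.asIdeal ∧ q'.asIdeal ≠ maximalIdeal A := by
  obtain ⟨l, hl⟩ := Order.le_krullDim_iff.1 (show ((2 : ℕ) : WithBot ℕ∞) ≤ ringKrullDim (A ⧸ q) from hq)
  let g : PrimeSpectrum (A ⧸ q) → PrimeSpectrum A := PrimeSpectrum.comap (Ideal.Quotient.mk q)
  have hg : StrictMono g := Monotone.strictMono_of_injective (fun P P' (e : P ≤ P') a ha => e ha)
    (PrimeSpectrum.comap_injective_of_surjective _ Ideal.Quotient.mk_surjective)
  let i₁ : Fin (l.length + 1) := ⟨1, by omega⟩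
  let i₂ : Fin (l.length + 1) := ⟨2, by omega⟩
  refine ⟨g (l i₁), lt_of_le_of_lt (fun a ha => show Ideal.Quotient.mk q a ∈ (l 0).asIdeal by
      rw [Ideal.Quotient.eq_zero_iff_mem.2 ha]; exact zero_mem _)
    (hg (l.strictMono (show (0 : Fin (l.length + 1)) < i₁ by simp [i₁, Fin.lt_def]))), fun h => ?_⟩
  have h2 : g (l i₁) < g (l i₂) := hg (l.strictMono (show i₁ < i₂ by simp [i₁, i₂, Fin.lt_def]))
  exact h2.not_ge fun a ha => h.ge (le_maximalIdeal (g (l i₂)).isPrime.ne_top ha)

theorem exists_coheight_one (p : PrimeSpectrum A) (hp : p.asIdeal ≠ maximalIdeal A) :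
    ∃ q : PrimeSpectrum A, p.asIdeal ≤ q.asIdeal ∧ q.asIdeal ≠ maximalIdeal A ∧ ringKrullDim (A ⧸ q.asIdeal) = 1 := by
  obtain ⟨q, ⟨hpq, hqm, hqp⟩, hmax⟩ := set_has_maximal_iff_noetherian.2 (inferInstance : IsNoetherian A A)
    {q : Ideal A | p.asIdeal ≤ q ∧ q ≠ maximalIdeal A ∧ q.IsPrime} ⟨p.asIdeal, le_rfl, hp, p.isPrime⟩
  haveI := hqp
  refine ⟨⟨q, hqp⟩, hpq, hqm, le_antisymm ?_ (one_le_dim hqm)⟩
  obtain ⟨d, hd, -⟩ := dim_quotient_eq q
  rw [hd]
  by_contra hc
  obtain ⟨q', hlt, hne⟩ := exists_above q (by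
    rw [hd]
    have : ¬ d ≤ 1 := fun h => hc (by exact_mod_cast h)
    exact_mod_cast (by omega : 2 ≤ d))
  exact hmax q'.asIdeal ⟨hpq.trans hlt.le, hne, q'.isPrime⟩ hlt

theorem height_succ_le {p q : PrimeSpectrum A} (hpq : p.asIdeal ≤ q.asIdeal) (hq : q.asIdeal ≠ maximalIdeal A) :
    (q.asIdeal.map (Ideal.Quotient.mk p.asIdeal)).height + 1 ≤
      ((maximalIdeal A).map (Ideal.Quotient.mk p.asIdeal)).height := by
  have hker : ∀ {I : Ideal A}, p.asIdeal ≤ I → RingHom.ker (Ideal.Quotient.mk p.asIdeal) ≤ I := fun h => by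
    rwa [Ideal.mk_ker]
  haveI := Ideal.map_isPrime_of_surjective (f := Ideal.Quotient.mk p.asIdeal) Ideal.Quotient.mk_surjective
    (hker hpq)
  haveI := Ideal.map_isPrime_of_surjective (f := Ideal.Quotient.mk p.asIdeal) Ideal.Quotient.mk_surjective
    (hker (le_maximalIdeal p.isPrime.ne_top))
  refine ENat.add_one_le_iff (Ideal.height_ne_top (Ideal.IsPrime.ne_top inferInstance)) |>.2 ?_
  refine Ideal.height_strict_mono_of_isPrime_of_isPrime (lt_of_le_of_ne (Ideal.map_mono (le_maximalIdeal q.isPrime.ne_top)) fun h => hq ?_)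
  have := congrArg (Ideal.comap (Ideal.Quotient.mk p.asIdeal)) h
  rwa [Faltings.comap_map_eq Ideal.Quotient.mk_surjective (hker hpq),
    Faltings.comap_map_eq Ideal.Quotient.mk_surjective (hker (le_maximalIdeal p.isPrime.ne_top))] at this

/-- Faltings' bound from the depth at the primes of coheight one. -/
theorem killed_of_depth {R : Type u} [CommRing R] [IsRegularRing R] (π : R →+* A) (hπ : Function.Surjective π)
    (t : A) (ht : t ∈ maximalIdeal A) (N : Type u) [AddCommGroup N] [Module A N] [Module.Finite A N] (n : ℕ)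
    (hdepth : ∀ q : PrimeSpectrum A, ringKrullDim (A ⧸ q.asIdeal) = 1 →
      ((n + 1 : ℕ) : ℕ∞) ≤ LocCoh.depth (Localization.AtPrime q.asIdeal) (LocalizedModule q.asIdeal.primeCompl N))
    (i : ℕ) (hi : i < n + 2) : ∃ c : ℕ, ∀ x : LocCoh.H (maximalIdeal A) i N, t ^ c • x = 0 := by
  have h : ((n + 2 : ℕ) : ℕ∞) ≤ LocCoh.finDimRel (maximalIdeal A) (Ideal.span {t}) N := by
    refine le_trans (le_iInf₂ fun p hp => ?_) (Faltings.minAdjDepth_le_finDimRel π hπ _ _ N)
    have htp : t ∉ p.asIdeal := fun h => hp ((Ideal.span_singleton_le_iff_mem _).2 h)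
    have hpm : p.asIdeal ≠ maximalIdeal A := fun h => htp (h ▸ ht)
    rw [LocCoh.adjDepth, sup_eq_left.2 (le_maximalIdeal p.isPrime.ne_top)]
    obtain ⟨q, hpq, hqm, hq⟩ := exists_coheight_one p hpm
    calc ((n + 2 : ℕ) : ℕ∞) = ((n + 1 : ℕ) : ℕ∞) + 1 := by push_cast; ring
      _ ≤ LocCoh.depth _ (LocalizedModule q.asIdeal.primeCompl N) + 1 := add_le_add_left (hdepth q hq) _
      _ ≤ (LocCoh.depth _ (LocalizedModule p.asIdeal.primeCompl N) + (q.asIdeal.map (Ideal.Quotient.mk p.asIdeal)).height) + 1 :=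
          add_le_add_left (Groth.Agent.S11650.result A N p.asIdeal q.asIdeal hpq) _
      _ ≤ _ := by rw [add_assoc]; exact add_le_add_right (height_succ_le hpq hqm) _
  exact (Faltings.le_finDimRel_iff (n + 2)).1 h i hi t (Ideal.mem_span_singleton_self t)

theorem isClosed_singleton {x : (LocCoh.puncturedOpen A (maximalIdeal A) : Scheme.{u})}
    (hx : ringKrullDim (A ⧸ x.1.asIdeal) = 1) : IsClosed ({x} : Set (LocCoh.puncturedOpen A (maximalIdeal A) : Scheme.{u})) := by
  rw [← closure_subset_iff_isClosed]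
  intro y hy
  have hsp : x.1 ⤳ y.1 := Topology.IsInducing.subtypeVal.specializes_iff.2 (specializes_iff_mem_closure.2 hy)
  have hle : x.1.asIdeal ≤ y.1.asIdeal := (PrimeSpectrum.le_iff_specializes _ _).2 hsp
  by_contra hne
  have hlt : x.1.asIdeal < y.1.asIdeal := lt_of_le_of_ne hle fun h =>
    hne (Subtype.ext (PrimeSpectrum.ext h.symm) : y = x)
  obtain ⟨a, hay, hax⟩ := SetLike.exists_of_lt hlt
  have h1 := Depth.ringKrullDim_quotient_sup_span_add_one_le x.1.asIdeal hax
  have h2 : ringKrullDim (A ⧸ y.1.asIdeal) ≤ ringKrullDim (A ⧸ (x.1.asIdeal ⊔ Ideal.span {a})) :=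
    ringKrullDim_le_of_surjective (Ideal.Quotient.factor (sup_le hle ((Ideal.span_singleton_le_iff_mem _).2 hay)))
      (Ideal.Quotient.factor_surjective _)
  have hym : y.1.asIdeal ≠ maximalIdeal A := fun h =>
    y.2 (show (maximalIdeal A : Set A) ⊆ y.1.asIdeal from fun a ha => h.ge ha)
  obtain ⟨d, hd, -⟩ := dim_quotient_eq y.1.asIdeal
  have h3 : (d : WithBot ℕ∞) + 1 ≤ 1 := le_trans (by rw [← hd]; gcongr) (h1.trans hx.le)
  have h4 : 1 ≤ d := by exact_mod_cast (one_le_dim hym).trans_eq hd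
  have h5 : d + 1 ≤ 1 := by exact_mod_cast h3
  omega

omit [IsLocalRing A] in
/-- A coherent module without `f`-torsion comes from a finite module without `f`-torsion. -/
theorem exists_regular_model (𝔞 : Ideal A) (f : A) (F : (LocCoh.puncturedOpen A 𝔞 : Scheme.{u}).Modules) (hF : Coh.IsCoh F)
    (hreg : Mono (Formal.smulMod A F f)) :
    ∃ (N : Type u) (_ : AddCommGroup N) (_ : Module A N) (_ : Module.Finite A N),
      IsSMulRegular N f ∧ Nonempty (rT 𝔞 N ≅ F) := by
  obtain ⟨M, hM, ⟨e⟩⟩ := Punctured.exists_finite_puncFun_iso 𝔞 F hF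
  haveI : Module.Finite A M := hM
  let tor : ℕ →o Submodule A M :=
    ⟨fun c => LinearMap.ker (f ^ c • (LinearMap.id : M →ₗ[A] M)), fun a b h x hx => by
      obtain ⟨d, rfl⟩ := Nat.exists_eq_add_of_le h
      simp only [LinearMap.mem_ker, LinearMap.smul_apply, LinearMap.id_apply] at hx ⊢
      rw [pow_add, mul_comm, mul_smul, hx, smul_zero]⟩
  obtain ⟨c, hc⟩ := monotone_stabilizes_iff_noetherian.2 (inferInstance : IsNoetherian A M) tor
  let T : Submodule A M := tor c
  refine ⟨M ⧸ T, inferInstance, inferInstance, inferInstance, ?_, ?_⟩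
  · rw [isSMulRegular_iff_right_eq_zero_of_smul]
    intro z hz
    obtain ⟨m, rfl⟩ := Submodule.Quotient.mk_surjective _ z
    rw [← Submodule.Quotient.mk_smul, Submodule.Quotient.mk_eq_zero] at hz
    rw [Submodule.Quotient.mk_eq_zero, show T = tor (c + 1) from hc (c + 1) (Nat.le_succ c)]
    simp only [T, tor, OrderHom.coe_mk, LinearMap.mem_ker, LinearMap.smul_apply, LinearMap.id_apply] at hz ⊢
    rwa [pow_succ, mul_smul]
  · letI := Algz7.specOverSelf A
    let S : ShortComplex (ModuleCat.{u} (CommRingCat.of A)) :=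
      ShortComplex.mk (ModuleCat.ofHom (R := CommRingCat.of A) T.subtype) (ModuleCat.ofHom (R := CommRingCat.of A) T.mkQ)
        (ModuleCat.hom_ext (LinearMap.ext fun x => (Submodule.Quotient.mk_eq_zero _).2 x.2))
    have hS : S.ShortExact := ShortComplex.ShortExact.mk'
      ((ShortComplex.moduleCat_exact_iff _).2 fun x hx => ⟨⟨x, (Submodule.Quotient.mk_eq_zero T).1 hx⟩, rfl⟩)
      ((ModuleCat.mono_iff_injective _).2 Subtype.val_injective) ((ModuleCat.epi_iff_surjective _).2 T.mkQ_surjective)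
    have hS' := Punctured.puncFun_shortExact 𝔞 S hS
    have hkill : Formal.KilledBy (Ideal.span {f ^ c}) (rT 𝔞 T) :=
      (isQuot_restrict (LocCoh.puncturedOpen A 𝔞).ι rfl (FormalSys.IsQuot.id_of_killedBy
        (Algz7.killedBy_tilde (ModuleCat.of A T) fun a ha x => by
          obtain ⟨b, rfl⟩ := Ideal.mem_span_singleton'.1 ha
          refine Subtype.ext ?_
          show (b * f ^ c) • (x : M) = 0
          rw [mul_smul, show f ^ c • (x : M) = 0 from x.2, smul_zero]))).killedBy
    have hmono : ∀ k, Mono (Formal.smulMod A F (f ^ k)) := fun k => by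
      induction k with
      | zero => rw [pow_zero, FormalSys.smulMod_one]; infer_instance
      | succ k ih => rw [pow_succ, FormalSys.smulMod_mul]; exact mono_comp _ _
    haveI := hmono c
    have h0 : (S.map (Punctured.puncFun 𝔞)).f = 0 := by
      refine (cancel_mono e.hom).1 ((cancel_mono (Formal.smulMod A F (f ^ c))).1 ?_)
      refine (FormalSys.smulMod_naturality _ (f ^ c)).symm.trans ?_
      refine (congrArg (· ≫ _) (hkill (f ^ c) (Ideal.mem_span_singleton_self _))).trans ?_
      exact zero_comp.trans ((congrArg (· ≫ _) zero_comp).trans zero_comp).symm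
    haveI := hS'.mono_f
    haveI := hS'.epi_g
    have hz : IsZero (S.map (Punctured.puncFun 𝔞)).X₁ := IsZero.of_mono_eq_zero _ h0
    haveI : IsIso (S.map (Punctured.puncFun 𝔞)).g := (hS'.isIso_g_iff).2 hz
    exact ⟨(asIso (S.map (Punctured.puncFun 𝔞)).g).symm ≪≫ e⟩

/-- Formal functions from the depth at the closed points. -/
theorem toHHlim_of_depth {R : Type u} [CommRing R] [IsRegularRing R] (π : R →+* A) (hπ : Function.Surjective π)
    (t : A) (ht : t ∈ maximalIdeal A) [IsAdicComplete (Ideal.span {t}) A]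
    (F : (LocCoh.puncturedOpen A (maximalIdeal A) : Scheme.{u}).Modules) (hF : Coh.IsCoh F)
    (hreg : Mono (Formal.smulMod A F t)) (n : ℕ)
    (hdepth : ∀ x : (LocCoh.puncturedOpen A (maximalIdeal A) : Scheme.{u}), IsClosed ({x} : Set (LocCoh.puncturedOpen A (maximalIdeal A) : Scheme.{u})) →
      ((n + 1 : ℕ) : ℕ∞) ≤ LocCoh.depth ((LocCoh.puncturedOpen A (maximalIdeal A) : Scheme.{u}).presheaf.stalk x) (F.presheaf.stalk x))
    (i : ℕ) : (i < n → Function.Bijective (Formal.toHHlim (Ideal.span {t}) F i)) ∧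
      (i = n → Function.Injective (Formal.toHHlim (Ideal.span {t}) F i)) := by
  let W := LocCoh.puncturedOpen A (maximalIdeal A)
  haveI : IsLocallyNoetherian (W : Scheme.{u}) := isLocallyNoetherian_of_isOpenImmersion W.ι
  haveI : CompactSpace (W : Scheme.{u}) := isCompact_iff_compactSpace.1 (TopologicalSpace.NoetherianSpace.isCompact _)
  haveI : IsNoetherian (W : Scheme.{u}) := {}
  obtain ⟨N, _, _, _, hN, ⟨e⟩⟩ := exists_regular_model (maximalIdeal A) t F hF hreg
  haveI : Module.Finite (CommRingCat.of A) (ModuleCat.of (CommRingCat.of A) N) := ‹_›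
  haveI : IsNoetherianRing (CommRingCat.of A) := ‹_›
  have hk : ∀ j, j < n + 2 → ∃ c : ℕ, ∀ x : LocCoh.H (maximalIdeal A) j N, t ^ c • x = 0 :=
    killed_of_depth π hπ t ht N n fun q hq => by
      have hqm : q.asIdeal ≠ maximalIdeal A := fun h => by
        haveI : (maximalIdeal A).IsMaximal := maximalIdeal.isMaximal A
        letI := Ideal.Quotient.field (maximalIdeal A)
        rw [h, ringKrullDim_eq_zero_of_field] at hq
        exact zero_ne_one hq
      let x : (W : Scheme.{u}) := ⟨q, fun h => hqm (le_antisymm (le_maximalIdeal q.isPrime.ne_top) h)⟩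
      refine (hdepth x (isClosed_singleton hq)).trans_eq ?_
      rw [← depth_congr_iso e x]
      exact (depth_stalk_restrict (tilde (ModuleCat.of (CommRingCat.of A) N)) W x).trans
        (depth_stalk_tilde (ModuleCat.of (CommRingCat.of A) N) q)
  have hkk : ∀ p, p + 2 < n + 2 → ∃ c : ℕ, ∀ x : Coh.HH (W : Scheme.{u}) F (p + 1), t ^ c • x = 0 := fun p hp => by
    obtain ⟨c, hc⟩ := hk (p + 2) hp
    obtain ⟨φ⟩ := Punctured.nonempty_HH_equiv_of_iso (maximalIdeal A) F (ModuleCat.of (CommRingCat.of A) N) e p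
    exact ⟨c, fun x => φ.injective (((map_smul φ (t ^ c) x).trans (hc (φ x))).trans (map_zero φ).symm)⟩
  have h0 : IsAdicComplete (Ideal.span {t}) (Coh.HH (W : Scheme.{u}) F 0) := by
    obtain ⟨c, hc⟩ := hk 1 (by omega)
    haveI := Formal2Sec7.finite_sc (maximalIdeal A) t hN (Formal2Sec7.c1_of_H (maximalIdeal A) t c hc)
    haveI : Module.Finite A (Coh.HH (W : Scheme.{u}) F 0) :=
      Module.Finite.equiv ((Punctured.H0Sec (maximalIdeal A) (ModuleCat.of (CommRingCat.of A) N)).symm.trans
        (Punctured.hhEquiv e 0))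
    exact AdicLim.isAdicComplete_of_finite _ _
  have hcomp : ∀ j, j ≤ n → IsAdicComplete (Ideal.span {t}) (Coh.HH (W : Scheme.{u}) F j) := fun j hj => by
    cases j with
    | zero => exact h0
    | succ p =>
      obtain ⟨c, hc⟩ := hkk p (by omega)
      exact isAdicComplete_of_killed t c hc
  obtain ⟨inj, bij⟩ := bij_of_killed_hh t hF i
  refine ⟨fun hi => FormalFun.toHHlim_bijective (bij (hcomp i hi.le) (hkk i (by omega))), fun hi => ?_⟩
  refine (injective_iff_map_eq_zero _).2 fun x hx => inj (hcomp i hi.le).toIsHausdorff x fun m => ?_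
  exact congrFun (congrArg Subtype.val hx) m

end GrothLib.PunctSec7
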