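import Groth.Agent.Lib.Formal2Sec7.Main
import Groth.Agent.Lib.LefEt7.Sec
import Groth.Agent.Lib.FSchSys.Completion
import Groth.Agent.Lib.QCoh.Qcqs
import Groth.Agent.Lib.Cohom.Compare
import Groth.Agent.Lib.FSchSys.Basic

/-!
# Functions on a punctured spectrum and on its principal thickenings
-/

set_option autoImplicit false
set_option linter.style.haveILetI false

universe u

open CategoryTheory AlgebraicGeometry Opposite Formal2 TopologicalSpace

noncomputable section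

namespace GrothLib.PunctSec7

variable {R : CommRingCat.{u}}

/-- The morphism out of an associated sheaf given on global sections. -/
def ofΓ {N : ModuleCat.{u} R} {P : (Spec R).Modules} (g : N ⟶ moduleSpecΓFunctor.obj P) : tilde N ⟶ P :=
  (tilde.adjunction.homEquiv N P).symm g

theorem ofΓ_comp {N N' : ModuleCat.{u} R} {P P' : (Spec R).Modules} (φ : N ⟶ N') (p : P ⟶ P')
    (g : N ⟶ moduleSpecΓFunctor.obj P) (g' : N' ⟶ moduleSpecΓFunctor.obj P')
    (h : φ ≫ g' = g ≫ moduleSpecΓFunctor.map p) : tilde.map φ ≫ ofΓ g' = ofΓ g ≫ p := by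
  unfold ofΓ
  refine Eq.trans ?_ ((tilde.adjunction (R := R)).homEquiv_naturality_right_symm g p)
  rw [← h]
  exact ((tilde.adjunction (R := R)).homEquiv_naturality_left_symm φ g').symm

theorem isIso_ofΓ {N : ModuleCat.{u} R} {P : (Spec R).Modules} [P.IsQuasicoherent]
    (g : N ⟶ moduleSpecΓFunctor.obj P) [IsIso g] : IsIso (ofΓ g) := by
  rw [ofΓ, Adjunction.homEquiv_counit]
  haveI : IsIso (Scheme.Modules.fromTildeΓ P) := inferInstance
  haveI h1 : IsIso ((tilde.adjunction (R := R)).counit.app P) := ‹_›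
  haveI h2 : IsIso ((tilde.functor R).map g) := inferInstance
  exact IsIso.comp_isIso' h2 h1

theorem ofΓ_app_bijective {N : ModuleCat.{u} R} {P : (Spec R).Modules} [P.IsQuasicoherent]
    (g : N ⟶ moduleSpecΓFunctor.obj P) (hg : Function.Bijective g.hom) (U : (Spec R).Opens) :
    Function.Bijective ((ofΓ g).app U) := by
  haveI : IsIso g := (ConcreteCategory.isIso_iff_bijective _).2 hg
  haveI := isIso_ofΓ g
  exact ConcreteCategory.bijective_of_isIso ((ofΓ g).app U)

theorem exists_factor {L N Q : ModuleCat.{u} R} (π : L ⟶ N) (hπ : Function.Surjective π.hom) (g₀ : L ⟶ Q)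
    (hg₀ : Function.Surjective g₀.hom) (h : ∀ a, g₀.hom a = 0 ↔ π.hom a = 0) :
    ∃ g : N ⟶ Q, Function.Bijective g.hom ∧ π ≫ g = g₀ := by
  have hker : LinearMap.ker π.hom = LinearMap.ker g₀.hom := Submodule.ext fun a => (h a).symm
  let e : N ≃ₗ[R] Q := (π.hom.quotKerEquivOfSurjective hπ).symm ≪≫ₗ Submodule.quotEquivOfEq _ _ hker ≪≫ₗ
    g₀.hom.quotKerEquivOfSurjective hg₀
  refine ⟨ModuleCat.ofHom e.toLinearMap, e.bijective, ModuleCat.hom_ext (LinearMap.ext fun a => ?_)⟩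
  show e (π.hom a) = g₀.hom a
  simp only [e, LinearEquiv.trans_apply, LinearMap.quotKerEquivOfSurjective_symm_apply, Submodule.quotEquivOfEq_mk,
    LinearMap.quotKerEquivOfSurjective_apply_mk]

/-- The map from `R` given by a global section. -/
def gen (P : (Spec R).Modules) (e : Γ(P, ⊤)) : ModuleCat.of R R ⟶ moduleSpecΓFunctor.obj P :=
  ModuleCat.homEquiv.symm (LinearMap.toSpanSingleton R (moduleSpecΓFunctor.obj P) e)

theorem gen_apply (P : (Spec R).Modules) (e : Γ(P, ⊤)) (a : R) :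
    (gen P e).hom a = (Scheme.ΓSpecIso R).inv a • e := by
  show a • e = _
  rw [Scheme.Modules.smul_Spec_def]
  congr 1

theorem gen_comp {P P' : (Spec R).Modules} (p : P ⟶ P') (e : Γ(P, ⊤)) :
    gen P e ≫ moduleSpecΓFunctor.map p = gen P' (p.app ⊤ e) := by
  refine ModuleCat.hom_ext (LinearMap.ext_ring ?_)
  show (moduleSpecΓFunctor.map p).hom ((gen P e).hom 1) = (gen P' (p.app ⊤ e)).hom 1
  rw [gen_apply, gen_apply, map_one, one_smul, one_smul]
  rfl

end GrothLib.PunctSec7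

namespace GrothLib.PunctSec7

variable {A : Type u} [CommRing A]

/-- The ideal sheaf of `(t)` on `Spec A`. -/
abbrev Kt (t : A) : (Spec (CommRingCat.of A)).IdealSheafData :=
  (Spec.map (CommRingCat.ofHom (Ideal.Quotient.mk (Ideal.span {t})))).ker

variable [IsNoetherianRing A] (t : A)

omit [IsNoetherianRing A] in
/-- The ideal of global sections of a power of `Kt`. -/
theorem mem_Kt_pow (n : ℕ) (a : A) :
    (Scheme.ΓSpecIso (CommRingCat.of A)).inv a ∈ ((Kt t) ^ n).ideal ⟨⊤, isAffineOpen_top _⟩ ↔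
      a ∈ Ideal.span {t} ^ n := by
  rw [Kt, ← FSchSys.ker_spec_quot_pow, FSchSys.ker_spec_quot_top]
  have hb := ConcreteCategory.bijective_of_isIso (Scheme.ΓSpecIso (CommRingCat.of A)).inv
  refine ⟨fun h => ?_, fun h => Ideal.mem_map_of_mem _ h⟩
  obtain ⟨b, hb', hbe⟩ := (Ideal.mem_map_iff_of_surjective _ hb.2).1 h
  exact hb.1 hbe ▸ hb'

/-- `O`, as the associated sheaf of `A`. -/
def θ₀ : tilde (ModuleCat.of (CommRingCat.of A) A) ⟶ Coh.structureModule (Spec (CommRingCat.of A)) :=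
  ofΓ (gen _ (1 : Γ(Spec (CommRingCat.of A), ⊤)))

/-- The unit of the quotient. -/
def one' (n : ℕ) : Γ(ClSub.quotMod ((Kt t) ^ (n + 1)), ⊤) :=
  (ClSub.toSubscheme ((Kt t) ^ (n + 1))).app ⊤ (1 : Γ(Spec (CommRingCat.of A), ⊤))

omit [IsNoetherianRing A] in
theorem gen_one_apply (a : A) :
    (gen (Coh.structureModule (Spec (CommRingCat.of A))) (1 : Γ(Spec (CommRingCat.of A), ⊤))).hom a =
      (Scheme.ΓSpecIso (CommRingCat.of A)).inv a := by
  rw [gen_apply]
  exact mul_one (M := Γ(Spec (CommRingCat.of A), ⊤)) _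

theorem gen_one'_apply (n : ℕ) (a : A) :
    (gen (ClSub.quotMod ((Kt t) ^ (n + 1))) (one' t n)).hom a =
      ((Kt t) ^ (n + 1)).subschemeι.app ⊤ ((Scheme.ΓSpecIso (CommRingCat.of A)).inv a) := by
  unfold one'
  rw [← gen_comp]
  refine Eq.trans ?_ (congrArg ((ClSub.toSubscheme ((Kt t) ^ (n + 1))).app ⊤) (gen_one_apply a))
  rfl

theorem exists_θ (n : ℕ) : ∃ θ : tilde (ModuleCat.of (CommRingCat.of A) (quotPow A (Ideal.span {t}) A n)) ⟶
      ClSub.quotMod ((Kt t) ^ (n + 1)),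
    (∀ U, Function.Bijective (θ.app U)) ∧
      tilde.map (ModuleCat.ofHom (R := CommRingCat.of A) (quotPowπ A (Ideal.span {t}) A n)) ≫ θ =
        θ₀ ≫ ClSub.toSubscheme ((Kt t) ^ (n + 1)) := by
  let K := (Kt t) ^ (n + 1)
  haveI := Cohom.isQuasicoherent_structureModule K.subscheme
  haveI : (ClSub.quotMod K).IsQuasicoherent := QCoh.isQuasicoherent_pushforward _ _
  have hzero : ∀ a : A, (gen _ (one' t n)).hom a = 0 ↔ a ∈ Ideal.span {t} ^ (n + 1) := fun a => by
    rw [← mem_Kt_pow t (n + 1) a, ← K.ker_subschemeι_app ⟨⊤, isAffineOpen_top _⟩, RingHom.mem_ker,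
      gen_one'_apply t n a]
    exact Iff.rfl
  have hsurj : Function.Surjective (gen _ (one' t n)).hom := fun e => by
    obtain ⟨b, hb⟩ := K.subschemeι.app_surjective ⊤ (isAffineOpen_top _) (show Γ(K.subscheme, _) from e)
    refine ⟨(Scheme.ΓSpecIso (CommRingCat.of A)).hom b, ?_⟩
    rw [gen_one'_apply t n, ← ConcreteCategory.comp_apply (Scheme.ΓSpecIso (CommRingCat.of A)).hom, Iso.hom_inv_id]
    exact hb
  have hq : ∀ {a : A}, a ∈ Ideal.span {t} ^ (n + 1) • (⊤ : Submodule A A) ↔ a ∈ Ideal.span {t} ^ (n + 1) :=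
    fun {a} => by rw [smul_eq_mul, ← Ideal.one_eq_top, mul_one]
  obtain ⟨g, hg, hπg⟩ := exists_factor (ModuleCat.ofHom (R := CommRingCat.of A) (quotPowπ A (Ideal.span {t}) A n))
    (Submodule.mkQ_surjective _) (gen (ClSub.quotMod ((Kt t) ^ (n + 1))) (one' t n)) hsurj
    (fun a => (hzero a).trans (hq.symm.trans (Submodule.Quotient.mk_eq_zero _).symm))
  refine ⟨ofΓ g, fun U => ofΓ_app_bijective _ hg U, ?_⟩
  refine ofΓ_comp _ _ _ _ ?_
  rw [gen_comp]
  exact hπg

theorem θ₀_bijective (U : (Spec (CommRingCat.of A)).Opens) : Function.Bijective (θ₀.app U) := by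
  haveI := Cohom.isQuasicoherent_structureModule (Spec (CommRingCat.of A))
  refine ofΓ_app_bijective _ ?_ U
  have h : ⇑(gen (Coh.structureModule (Spec (CommRingCat.of A)))
      (1 : Γ(Spec (CommRingCat.of A), ⊤))).hom = ⇑(Scheme.ΓSpecIso (CommRingCat.of A)).inv := by
    funext a
    exact gen_one_apply a
  rw [h]
  exact ConcreteCategory.bijective_of_isIso _

end GrothLib.PunctSec7

namespace GrothLib.PunctSec7

variable {X : Scheme.{u}}

theorem quotMap_app {I J : X.IdealSheafData} (h : I ≤ J) (U : X.Opens)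
    (x : Γ(I.subscheme, I.subschemeι ⁻¹ᵁ U)) (he : J.subschemeι ⁻¹ᵁ U ≤
      Scheme.IdealSheafData.inclusion h ⁻¹ᵁ (I.subschemeι ⁻¹ᵁ U)) :
    (Lef.quotMap h).app U x = (Scheme.IdealSheafData.inclusion h).appLE _ (J.subschemeι ⁻¹ᵁ U) he x := by
  show (J.subscheme.presheaf.map (eqToHom (congrArg (fun g => g ⁻¹ᵁ U) (Scheme.IdealSheafData.inclusion_subschemeι h).symm)).op)
      ((Scheme.IdealSheafData.inclusion h).app (I.subschemeι ⁻¹ᵁ U) x) = _
  rfl

theorem appLE_comp_apply {Y Z : Scheme.{u}} (f : X ⟶ Y) (g : Y ⟶ Z) (W : Z.Opens) (V : Y.Opens) (V' : X.Opens)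
    (e : V ≤ g ⁻¹ᵁ W) (e' : V' ≤ f ⁻¹ᵁ V) (x : Γ(Z, W)) :
    f.appLE V V' e' (g.appLE W V e x) =
      (f ≫ g).appLE W V' (e'.trans (f.preimage_mono e)) x :=
  (ConcreteCategory.comp_apply _ _ _).symm.trans
    (congrArg (fun φ => φ x) (Scheme.Hom.appLE_comp_appLE f g W V V' e e'))

theorem appLE_congr_apply {Y : Scheme.{u}} {f g : X ⟶ Y} (h : f = g) (W : Y.Opens) (V : X.Opens)
    (e : V ≤ f ⁻¹ᵁ W) (e' : V ≤ g ⁻¹ᵁ W) (x : Γ(Y, W)) : f.appLE W V e x = g.appLE W V e' x := by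
  subst h; rfl

theorem appLE_bijective {Y : Scheme.{u}} (j : X ⟶ Y) [IsOpenImmersion j] (W : Y.Opens) (hW : W ≤ j.opensRange)
    (e : (⊤ : X.Opens) ≤ j ⁻¹ᵁ W) : Function.Bijective (j.appLE W ⊤ e) := by
  haveI := j.isIso_app W hW
  haveI : IsIso (homOfLE e) := ⟨⟨homOfLE le_top, Subsingleton.elim _ _, Subsingleton.elim _ _⟩⟩
  haveI : IsIso (j.appLE W ⊤ e) := by rw [Scheme.Hom.appLE]; infer_instance
  exact ConcreteCategory.bijective_of_isIso _

end GrothLib.PunctSec7

namespace GrothLib.PunctSec7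

variable {A : Type u} [CommRing A] [IsNoetherianRing A] (𝔞 : Ideal A) (t : A)

set_option quotPrecheck false
local notation "UU" => LocCoh.puncturedOpen A 𝔞

/-- Functions on the punctured spectrum are the limit of functions on its thickenings. -/
theorem secBij [IsAdicComplete (Ideal.span {t}) A] (h₁ : ∃ n : ℕ, ∀ x : LocCoh.H 𝔞 1 A, t ^ n • x = 0)
    (h₂ : ∃ n : ℕ, ∀ x : LocCoh.H 𝔞 2 A, t ^ n • x = 0) :
    LefEt7.SecBij (V := (UU : Scheme.{u})) (fun n => ((Kt t).comap (UU).ι) ^ (n + 1))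
      (fun n => Lef.pow_succ_le ((Kt t).comap (UU).ι) n) := by
  obtain ⟨inj, surj⟩ := Formal2Sec7.bijective_of_killed (M := A) 𝔞 t h₁ h₂
  choose θ hθ hθπ using exists_θ t
  let K : ℕ → (Spec (CommRingCat.of A)).IdealSheafData := fun n => (Kt t) ^ (n + 1)
  let J : ℕ → (UU : Scheme.{u}).IdealSheafData := fun n => ((Kt t).comap (UU).ι) ^ (n + 1)
  -- the open immersions of the thickenings
  have hk : ∀ n, ∃ k : (J n).subscheme ⟶ (K n).subscheme, IsOpenImmersion k ∧
      k ≫ (K n).subschemeι = (J n).subschemeι ≫ (UU).ι ∧ (↑((K n).subschemeι ⁻¹ᵁ UU) : Set (K n).subscheme) ⊆ Set.range k := fun n => by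
    have hJ : J n = (K n).comap (UU).ι := (GrothLib.FSchSys.comap_pow _ _ _).symm
    rw [hJ]
    refine ⟨((K n).comapIso (UU).ι).hom ≫ Limits.pullback.snd (UU).ι (K n).subschemeι, ?_, ?_, fun z hz => ?_⟩
    · haveI : IsOpenImmersion (Limits.pullback.snd (UU).ι (K n).subschemeι) := inferInstance
      infer_instance
    · rw [Category.assoc, ← Limits.pullback.condition, ← Category.assoc]
      congr 1
      exact (K n).comapIso_hom_fst (UU).ι
    · obtain ⟨w, -, hw⟩ := Scheme.Pullback.exists_preimage_pullback (f := (UU).ι) (g := (K n).subschemeι) ⟨_, hz⟩ z rfl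
      obtain ⟨w', rfl⟩ := ((K n).comapIso (UU).ι).hom.surjective w
      exact ⟨w', hw⟩
  choose k hk hkι hkr using hk
  have hke : ∀ n, (⊤ : (J n).subscheme.Opens) ≤ k n ⁻¹ᵁ ((K n).subschemeι ⁻¹ᵁ UU) := fun n z _ => by
    show ((k n) ≫ (K n).subschemeι) z ∈ UU
    rw [hkι]
    exact ((J n).subschemeι z).2
  have hιe : (⊤ : (UU : Scheme.{u}).Opens) ≤ (UU).ι ⁻¹ᵁ UU := fun z _ => z.2
  have hkb : ∀ n, Function.Bijective ((k n).appLE _ ⊤ (hke n)) := fun n =>
    haveI := hk n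
    appLE_bijective (k n) _ (hkr n) (hke n)
  have hιb : Function.Bijective ((UU).ι.appLE UU ⊤ hιe) :=
    appLE_bijective (UU).ι _ (Scheme.Opens.opensRange_ι _).ge hιe
  -- the comparisons
  let E : ∀ n, Formal2Sec7.Sc 𝔞 (quotPow A (Ideal.span {t}) A n) → Γ((J n).subscheme, ⊤) := fun n w =>
    (k n).appLE _ ⊤ (hke n) ((θ n).app UU w)
  let F : Formal2Sec7.Sc 𝔞 A → Γ((UU : Scheme.{u}), ⊤) := fun s => (UU).ι.appLE UU ⊤ hιe (θ₀.app UU s)
  have hE : ∀ n, Function.Bijective (E n) := fun n => (hkb n).comp (hθ n UU)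
  have hF : Function.Bijective F := hιb.comp (θ₀_bijective UU)
  have hEF : ∀ n s, E n (Formal2Sec7.sm 𝔞 (quotPowπ A (Ideal.span {t}) A n) s) = (J n).subschemeι.appTop (F s) := by
    intro n s
    have h1 : (θ n).app UU (Formal2Sec7.sm 𝔞 (quotPowπ A (Ideal.span {t}) A n) s) =
        (K n).subschemeι.app UU (θ₀.app UU s) :=
      congrArg (fun φ => φ.app UU s) (hθπ n)
    show (k n).appLE _ ⊤ (hke n) _ = (J n).subschemeι.appTop ((UU).ι.appLE UU ⊤ hιe (θ₀.app UU s))
    rw [h1, Scheme.Hom.app_eq_appLE, Scheme.Hom.appTop, Scheme.Hom.app_eq_appLE]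
    refine (appLE_comp_apply _ _ _ _ _ _ _ _).trans ?_
    refine Eq.trans ?_ (appLE_comp_apply _ _ _ _ _ _ _ _).symm
    exact appLE_congr_apply (hkι n) _ _ _ _ _
  have hEtr : ∀ n w, (Scheme.IdealSheafData.inclusion (Lef.pow_succ_le ((Kt t).comap (UU).ι) n)).appTop (E (n + 1) w) =
      E n (Formal2Sec7.sm 𝔞 (quotPowTrans A (Ideal.span {t}) A n) w) := by
    intro n w
    have hnat : tilde.map (ModuleCat.ofHom (R := CommRingCat.of A) (quotPowTrans A (Ideal.span {t}) A n)) ≫ θ n =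
        θ (n + 1) ≫ Lef.quotMap (Lef.pow_succ_le (Kt t) n) := by
      haveI : Epi (ModuleCat.ofHom (R := CommRingCat.of A) (quotPowπ A (Ideal.span {t}) A (n + 1))) :=
        (ModuleCat.epi_iff_surjective _).2 (Submodule.mkQ_surjective _)
      haveI : Epi (tilde.map (ModuleCat.ofHom (R := CommRingCat.of A) (quotPowπ A (Ideal.span {t}) A (n + 1)))) :=
        inferInstanceAs (Epi ((tilde.functor (CommRingCat.of A)).map
          (ModuleCat.ofHom (R := CommRingCat.of A) (quotPowπ A (Ideal.span {t}) A (n + 1)))))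
      refine (cancel_epi (tilde.map (ModuleCat.ofHom (R := CommRingCat.of A) (quotPowπ A (Ideal.span {t}) A (n + 1))))).1 ?_
      rw [← Category.assoc, ← Category.assoc, hθπ (n + 1), ← tilde.map_comp, Category.assoc,
        LefEt7.toSubscheme_quotMap, ← hθπ n]
      exact congrArg (fun φ => tilde.map φ ≫ θ n) (ModuleCat.hom_ext (LinearMap.ext fun a => rfl))
    let inc := Scheme.IdealSheafData.inclusion (Lef.pow_succ_le (Kt t) n)
    have hincι : inc ≫ (K (n + 1)).subschemeι = (K n).subschemeι := Scheme.IdealSheafData.inclusion_subschemeι _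
    have he : (K n).subschemeι ⁻¹ᵁ UU ≤ inc ⁻¹ᵁ ((K (n + 1)).subschemeι ⁻¹ᵁ UU) := by
      rw [← Scheme.Hom.comp_preimage, hincι]
    have h1 : (θ n).app UU (Formal2Sec7.sm 𝔞 (quotPowTrans A (Ideal.span {t}) A n) w) =
        inc.appLE _ _ he ((θ (n + 1)).app UU w) :=
      (congrArg (fun φ => φ.app UU w) hnat).trans (quotMap_app _ UU _ he)
    show _ = (k n).appLE _ ⊤ (hke n) _
    rw [h1, Scheme.Hom.appTop, Scheme.Hom.app_eq_appLE]
    refine (appLE_comp_apply _ _ _ _ _ _ _ _).trans ?_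
    refine Eq.trans ?_ (appLE_comp_apply _ _ _ _ _ _ _ _).symm
    refine appLE_congr_apply ?_ _ _ _ _ _
    rw [← cancel_mono (K (n + 1)).subschemeι, Category.assoc, Category.assoc, hkι, hincι, hkι,
      ← Category.assoc]
    congr 1
    exact Scheme.IdealSheafData.inclusion_subschemeι _
  refine ⟨fun x hx => ?_, fun e he => ?_⟩
  · obtain ⟨s, rfl⟩ := hF.2 x
    have h0 : s = 0 := inj s fun n => (hE n).1 ((hEF n s).trans ((hx n).trans
      ((congrArg _ (map_zero ((θ n).app UU).hom)).trans (map_zero _)).symm))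
    rw [h0]
    exact (congrArg _ (map_zero (θ₀.app UU).hom)).trans (map_zero _)
  · choose w hw using fun n => (hE n).2 (e n)
    obtain ⟨s, hs⟩ := surj w fun n => (hE n).1 (by rw [← hEtr, hw (n + 1), he n, hw n])
    exact ⟨F s, fun n => by rw [← hEF, hs, hw]⟩

end GrothLib.PunctSec7
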